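import Mathlib
import Cfsg.Agent.Lib.OddCond.Basic
import Cfsg.Agent.Lib.BrauerSuzukiQ.Main
import Cfsg.Agent.Lib.BrauerSuzukiQ.Quaternion

/-!
A non-cyclic simple group contains a Klein four-group, given the odd order theorem.
-/

set_option autoImplicit false

universe u

namespace Cfsg.Agent.Lib.OddCond

variable {G : Type u} [Group G] [Finite G]

theorem exists_kleinFour (hFT : OddSolvable.{u}) [IsSimpleGroup G] (hG : ¬ IsCyclic G) :
    ∃ E : Subgroup G, IsKleinFour E := by
  by_contra h
  push Not at h
  have hna : ¬ IsMulCommutative G := fun hc => hG (by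
    letI : CommGroup G := { (inferInstance : Group G) with mul_comm := hc.is_comm.comm }
    exact IsSimpleGroup.isCyclic)
  have heven : Even (Nat.card G) := by
    by_contra hodd
    exact hna ⟨⟨IsSimpleGroup.comm_iff_isSolvable.2 (hFT G (Nat.not_even_iff_odd.1 hodd))⟩⟩
  exact BrauerSuzukiQ.false_of_simple hna (BrauerSuzukiQ.oneInvolution_of_no_klein h) heven

end Cfsg.Agent.Lib.OddCond
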