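import Mathlib
import Cfsg.Agent.Lib.OddCond.Basic
import Cfsg.Agent.Lib.Coprime.Aut
import Cfsg.Agent.Lib.ThompsonNPC.GlaubermanThompson
import Cfsg.Agent.Lib.MaxCentralisers.Basic
import Cfsg.Agent.Lib.Transfer.Hall
import Cfsg.Agent.Lib.SZ.Card

/-!
Coprime action all of whose proper invariant subgroups are nilpotent, given the odd order theorem.
-/

set_option autoImplicit false
open scoped Pointwise
open Subgroup

universe u v

namespace Cfsg.Agent.Lib.OddCond

variable {A : Type v} {G : Type u} [Group A] [Group G] [Finite A] [Finite G]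
  [MulDistribMulAction A G]

theorem exists_invariant_sylow (hA : OddSolvable.{v}) (hG : OddSolvable.{u})
    (hcop : (Nat.card A).Coprime (Nat.card G)) (p : ℕ) [Fact p.Prime] :
    ∃ P : Sylow p G, ∀ a : A, ∀ x ∈ (P : Subgroup G), a • x ∈ (P : Subgroup G) := by
  refine Coprime.exists_smul_invariant_sylow hcop ?_ p
  rcases Nat.even_or_odd (Nat.card G) with h | h
  · refine Or.inl (hA A ?_)
    rw [← Nat.not_even_iff_odd]
    intro h'
    exact Nat.prime_two.not_dvd_one (hcop ▸ Nat.dvd_gcd (even_iff_two_dvd.1 h') (even_iff_two_dvd.1 h))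
  · exact Or.inr (hG G h)

omit [Finite A] in
theorem nilpotent_of_proper_invariant
    (hmax : ∀ H : Subgroup G, H ≠ ⊤ → (∀ a : A, ∀ x ∈ H, a • x ∈ H) →
      (∀ K : Subgroup G, H < K → (∀ a : A, ∀ x ∈ K, a • x ∈ K) → K = ⊤) → Group.IsNilpotent H)
    (H : Subgroup G) (hH : H ≠ ⊤) (hinv : ∀ a : A, ∀ x ∈ H, a • x ∈ H) : Group.IsNilpotent H := by
  obtain ⟨K, ⟨hHK, hK, hKinv⟩, hKmax⟩ := Set.exists_max_image
    {K : Subgroup G | H ≤ K ∧ K ≠ ⊤ ∧ ∀ a : A, ∀ x ∈ K, a • x ∈ K} (fun K => Nat.card K)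
    (Set.toFinite _) ⟨H, le_rfl, hH, hinv⟩
  haveI := hmax K hK hKinv fun L hKL hL => by
    by_contra hne
    have h1 := hKmax L ⟨hHK.trans hKL.le, hne, hL⟩
    exact hKL.ne (eq_of_le_of_card_ge hKL.le h1)
  exact Group.nilpotent_of_mulEquiv (Subgroup.subgroupOfEquivOfLe hHK)

theorem isSolvable_of_invariant_nilpotent (hA : OddSolvable.{v}) (hG : OddSolvable.{u})
    (hcop : (Nat.card A).Coprime (Nat.card G))
    (hnil : ∀ H : Subgroup G, H ≠ ⊤ → (∀ a : A, ∀ x ∈ H, a • x ∈ H) → Group.IsNilpotent H) :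
    Group.IsSolvable G := by
  rcases subsingleton_or_nontrivial G with hs | hnt
  · exact Group.isSolvable_of_comm fun a b => Subsingleton.elim _ _
  obtain ⟨M, ⟨hMn, hMt, hMinv⟩, hMmax⟩ := Set.exists_max_image
    {M : Subgroup G | M.Normal ∧ M ≠ ⊤ ∧ ∀ a : A, ∀ x ∈ M, a • x ∈ M} (fun M => Nat.card M)
    (Set.toFinite _) ⟨⊥, inferInstance, bot_ne_top, fun a x hx => by
      rw [Subgroup.mem_bot] at hx ⊢; rw [hx, smul_one]⟩
  haveI := hMn
  haveI := hnil M hMt hMinv
  suffices Group.IsSolvable (G ⧸ M) from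
    (Group.isSolvable_iff_subgroup_quotient M).2 ⟨inferInstance, this⟩
  set π := QuotientGroup.mk' M with hπdef
  have hπ : Function.Surjective π := QuotientGroup.mk'_surjective M
  -- the induced automorphisms
  have hmapM : ∀ a : A, M.map (MulDistribMulAction.toMulEquiv G a).toMonoidHom = M := fun a =>
    eq_of_le_of_card_ge (by rintro _ ⟨x, hx, rfl⟩; exact hMinv a x hx)
      (card_map_of_injective (MulDistribMulAction.toMulEquiv G a).injective).ge
  let φ : A → (G ⧸ M ≃* G ⧸ M) := fun a => QuotientGroup.congr M M (MulDistribMulAction.toMulEquiv G a) (hmapM a)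
  have hφ : ∀ a x, φ a (π x) = π (a • x) := fun a x => rfl
  have hmaxM : ∀ X : Subgroup (G ⧸ M), X.Normal → (∀ a, ∀ q ∈ X, φ a q ∈ X) → X ≠ ⊥ → X = ⊤ := by
    intro X hX hXinv hne
    by_contra htop
    have hle : M ≤ X.comap π := QuotientGroup.le_comap_mk' M X
    have h1 := hMmax (X.comap π) ⟨inferInstance, fun h => htop (by
        rw [← map_comap_eq_self_of_surjective hπ X, h, map_top_of_surjective _ hπ]),
      fun a x hx => by
        show π (a • x) ∈ X
        rw [← hφ]; exact hXinv a _ hx⟩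
    apply hne
    rw [← map_comap_eq_self_of_surjective hπ X, ← eq_of_le_of_card_ge hle h1,
      QuotientGroup.map_mk'_self]
  by_cases hodd : ∃ p : ℕ, p.Prime ∧ p ≠ 2 ∧ p ∣ Nat.card (G ⧸ M)
  swap
  · push Not at hodd
    haveI : Fact (Nat.Prime 2) := ⟨Nat.prime_two⟩
    exact isPGroup_isSolvable (p := 2) (IsPGroup.of_card
      (Nat.eq_prime_pow_of_unique_prime_dvd Nat.card_pos.ne'
        fun {d} hd hdvd => by_contra fun hne => hodd d hd hne hdvd))
  obtain ⟨p, hp, hp2, hpd⟩ := hodd
  haveI : Fact p.Prime := ⟨hp⟩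
  obtain ⟨P, hP⟩ := exists_invariant_sylow hA hG hcop p
  set P' : Sylow p (G ⧸ M) := P.mapSurjective hπ with hP'
  have hcoe : (P' : Subgroup (G ⧸ M)) = (P : Subgroup G).map π := Sylow.coe_mapSurjective hπ P
  set Z := Cfsg.centerThompsonOf p (P' : Subgroup (G ⧸ M)) with hZ
  have hPφ : ∀ a, ((P' : Subgroup (G ⧸ M))).map (φ a).toMonoidHom = P' := fun a => by
    refine eq_of_le_of_card_ge ?_ (card_map_of_injective (φ a).injective).ge
    rw [hcoe]
    rintro _ ⟨_, ⟨x, hx, rfl⟩, rfl⟩
    exact ⟨a • x, hP a x hx, rfl⟩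
  have hZφ : ∀ a, Z.map (φ a).toMonoidHom = Z := fun a => by
    have h := MaxCentralisers.centerThompsonOf_map (p := p) (f := (φ a).toMonoidHom) (φ a).injective
      (P' : Subgroup (G ⧸ M))
    rw [hPφ] at h
    exact h.symm
  set N := normalizer (Z : Set (G ⧸ M)) with hN
  have hNφ : ∀ a, ∀ q ∈ N, φ a q ∈ N := by
    intro a q hq
    rw [hN, mem_normalizer_iff]
    intro z
    obtain ⟨z, rfl⟩ := (φ a).surjective z
    have hmem : ∀ w, φ a w ∈ Z ↔ w ∈ Z := fun w => by
      conv_lhs => rw [← hZφ a]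
      exact Subgroup.mem_map_iff_mem (f := (φ a).toMonoidHom) (φ a).injective
    rw [← map_inv, ← map_mul, ← map_mul, hmem, hmem]
    exact mem_normalizer_iff.1 hq z
  have hP'ne : (P' : Subgroup (G ⧸ M)) ≠ ⊥ := P'.ne_bot_of_dvd_card hpd
  by_cases hNtop : N = ⊤
  · -- `Z(J(P))` is normal
    haveI : Z.Normal := normalizer_eq_top_iff.1 hNtop
    have hZne : Z ≠ ⊥ := ThompsonNPC.centerThompsonOf_ne_bot P'.2 hP'ne
    have hZtop := hmaxM Z inferInstance (fun a q hq => by
      rw [← hZφ a]; exact mem_map_of_mem _ hq) hZne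
    have hle : (⊤ : Subgroup (G ⧸ M)) ≤ P' := hZtop ▸ (inf_le_left.trans
      (Thompson.thompsonSubgroupOf_le p _))
    exact isPGroup_isSolvable (p := p) ((P'.2.to_le hle).of_equiv topEquiv)
  · set Y := N.comap π
    have hYt : Y ≠ ⊤ := fun h => hNtop (by
      rw [← map_comap_eq_self_of_surjective hπ N]
      show Y.map π = ⊤
      rw [h, map_top_of_surjective _ hπ])
    haveI := hnil Y hYt fun a x hx => by
      show π (a • x) ∈ N
      rw [← hφ]; exact hNφ a _ hx
    haveI : Group.IsNilpotent N := Group.nilpotent_of_surjective (π.subgroupComap N)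
      (MonoidHom.subgroupComap_surjective_of_surjective π N hπ)
    have hc := ThompsonNPC.hasNormalPComplement_of_glaubermanThompson hp2 P'
      (Transfer.hasNormalPComplement_of_isNilpotent (G := N))
    have hK := Transfer.hasNormalPComplement_iff.1 hc
    set K := Cfsg.pResidual p (G ⧸ M)
    have hKt : K ≠ ⊤ := fun h => hK (by rw [h, Subgroup.card_top]; exact hpd)
    have hKb : K = ⊥ := by
      by_contra hne
      refine hKt (hmaxM K inferInstance (fun a q hq => ?_) hne)
      have hle : K ≤ K.comap (φ a).toMonoidHom := (closure_le _).2 fun g hg =>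
        subset_closure (show (orderOf (φ a g)).Coprime p by rwa [MulEquiv.orderOf_eq])
      exact hle hq
    have hcomp := Transfer.isComplement'_pResidual P' hK
    have hcomp' : (⊥ : Subgroup (G ⧸ M)).IsComplement' (P' : Subgroup (G ⧸ M)) := hKb ▸ hcomp
    have hPtop := isComplement'_bot_left.1 hcomp'
    exact isPGroup_isSolvable (p := p) ((P'.2.to_le hPtop.ge).of_equiv topEquiv)

theorem structure_of_invariant_nilpotent (hA : OddSolvable.{v}) (hG : OddSolvable.{u})
    (hcop : (Nat.card A).Coprime (Nat.card G))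
    (hmax : ∀ H : Subgroup G, H ≠ ⊤ → (∀ a : A, ∀ x ∈ H, a • x ∈ H) →
      (∀ K : Subgroup G, H < K → (∀ a : A, ∀ x ∈ K, a • x ∈ K) → K = ⊤) → Group.IsNilpotent H)
    (hnon : ¬ Group.IsNilpotent G) :
    Group.IsSolvable G ∧
      (∃ p q a b : ℕ, p.Prime ∧ q.Prime ∧ p ≠ q ∧ Nat.card G = p ^ a * q ^ b) ∧
      ∃ (p : ℕ) (P : Sylow p G), p.Prime ∧ p ∣ Nat.card G ∧ (P : Subgroup G).Normal ∧
        (∀ a : A, ∀ x ∈ (P : Subgroup G), a • x ∈ (P : Subgroup G)) := by
  have hnil := nilpotent_of_proper_invariant hmax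
  haveI hsol := isSolvable_of_invariant_nilpotent hA hG hcop hnil
  haveI hnt : Nontrivial G := by
    by_contra h
    haveI := not_nontrivial_iff_subsingleton.1 h
    exact hnon inferInstance
  -- a maximal invariant subgroup above the derived group
  obtain ⟨M, ⟨hMc, hMt, hMinv⟩, hMmax⟩ := Set.exists_max_image
    {M : Subgroup G | commutator G ≤ M ∧ M ≠ ⊤ ∧ ∀ a : A, ∀ x ∈ M, a • x ∈ M} (fun M => Nat.card M)
    (Set.toFinite _) ⟨commutator G, le_rfl, (Group.IsSolvable.commutator_lt_top_of_nontrivial G).ne,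
      fun a x hx => by
        have h : (commutator G).map (MulDistribMulAction.toMulEquiv G a).toMonoidHom ≤ commutator G := by
          rw [commutator_def, Subgroup.map_commutator]
          exact commutator_mono le_top le_top
        exact h (mem_map_of_mem _ hx)⟩
  haveI hMn : M.Normal := ⟨fun x hx g => by
    have h := mul_mem (hMc (commutator_mem_commutator (mem_top g) (mem_top x))) hx
    simpa [commutatorElement_def] using h⟩
  obtain ⟨r, hr, hrd⟩ := Nat.exists_prime_and_dvd (n := M.index) (fun h => hMt (index_eq_one.1 h))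
  haveI : Fact r.Prime := ⟨hr⟩
  obtain ⟨R, hR⟩ := exists_invariant_sylow hA hG hcop r
  have hRM : ¬ (R : Subgroup G) ≤ M := fun h => R.not_dvd_index (hrd.trans (index_dvd_of_le h))
  have hsupinv : ∀ H K : Subgroup G, (∀ a : A, ∀ x ∈ H, a • x ∈ H) →
      (∀ a : A, ∀ x ∈ K, a • x ∈ K) → ∀ a : A, ∀ x ∈ H ⊔ K, a • x ∈ H ⊔ K := by
    intro H K hH hK a x hx
    have h : H ⊔ K ≤ (H ⊔ K).comap (MulDistribMulAction.toMulEquiv G a).toMonoidHom :=
      sup_le (fun y hy => mem_sup_left (hH a y hy)) (fun y hy => mem_sup_right (hK a y hy))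
    exact h hx
  have htop : M ⊔ (R : Subgroup G) = ⊤ := by
    by_contra hne
    have h1 := hMmax (M ⊔ R) ⟨hMc.trans le_sup_left, hne, hsupinv M R hMinv hR⟩
    exact hRM (le_sup_right.trans (eq_of_le_of_card_ge le_sup_left h1).ge)
  have hMidx : M.index ∣ Nat.card (R : Subgroup G) := by
    rw [← relIndex_top_right M, ← htop, sup_comm, relIndex_sup_right]
    exact relIndex_dvd_card M _
  haveI := hnil M hMt hMinv
  -- the Sylow subgroups for the other primes are normal
  have hnormal : ∀ (p : ℕ) [Fact p.Prime], p ≠ r → ∀ S : Sylow p G, (S : Subgroup G).Normal := by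
    intro p _ hpr S
    have hSM : (S : Subgroup G) ≤ M := by
      intro x hx
      obtain ⟨k, hk⟩ := IsPGroup.iff_orderOf.1 S.2 ⟨x, hx⟩
      rw [Subgroup.orderOf_mk] at hk
      obtain ⟨j, hj⟩ := IsPGroup.iff_card.1 R.2
      have h1 : orderOf (QuotientGroup.mk' M x) ∣ M.index := orderOf_dvd_natCard _
      have h2 : orderOf (QuotientGroup.mk' M x) ∣ p ^ k := hk ▸ orderOf_map_dvd _ x
      have h3 : (p ^ k).Coprime (Nat.card (R : Subgroup G)) := by
        rw [hj]
        exact ((Nat.coprime_primes Fact.out hr).2 hpr).pow _ _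
      have h4 := Nat.eq_one_of_dvd_coprimes h3 h2 (h1.trans hMidx)
      exact (QuotientGroup.eq_one_iff x).1 (orderOf_eq_one_iff.1 h4)
    let S' : Sylow p M := S.subtype hSM
    haveI : ((S' : Sylow p M) : Subgroup M).Normal :=
      S'.normal_of_normalizerCondition Group.normalizerCondition_of_isNilpotent
    haveI := S'.characteristic_of_normal inferInstance
    have h5 : ((S' : Subgroup M).map M.subtype).Normal := inferInstance
    rwa [Sylow.coe_subtype, map_subgroupOf_eq_of_le hSM] at h5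
  -- `R` is not normal
  have hRn : ¬ (R : Subgroup G).Normal := by
    intro hRn
    apply hnon
    refine (Group.isNilpotent_of_finite_tfae (G := G)).out 3 0 |>.1 fun p hp S => ?_
    by_cases hpr : p = r
    · subst hpr
      haveI := hRn
      haveI := Sylow.unique_of_normal R hRn
      rw [Subsingleton.elim S R]; exact hRn
    · exact @hnormal p hp hpr S
  obtain ⟨p, hp, hpr, S, hSinv, hSR⟩ : ∃ (p : ℕ) (_ : Fact p.Prime), p ≠ r ∧
      ∃ S : Sylow p G, (∀ a : A, ∀ x ∈ (S : Subgroup G), a • x ∈ (S : Subgroup G)) ∧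
        ¬ (S : Subgroup G) ≤ normalizer ((R : Subgroup G) : Set G) := by
    by_contra hne
    push Not at hne
    apply hRn
    rw [← normalizer_eq_top_iff, ← index_eq_one]
    by_contra h1
    obtain ⟨p, hp, hpd⟩ := Nat.exists_prime_and_dvd h1
    haveI : Fact p.Prime := ⟨hp⟩
    by_cases hpr : p = r
    · subst hpr
      exact R.not_dvd_index (hpd.trans (index_dvd_of_le le_normalizer))
    · obtain ⟨S, hS⟩ := exists_invariant_sylow hA hG hcop p
      exact S.not_dvd_index (hpd.trans (index_dvd_of_le (hne p ⟨hp⟩ hpr S hS)))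
  haveI := hp
  haveI hSn := hnormal p hpr S
  set T := (S : Subgroup G) ⊔ (R : Subgroup G) with hT
  have hTtop : T = ⊤ := by
    by_contra hne
    haveI := hnil T hne (hsupinv _ _ hSinv hR)
    let R' : Sylow r T := R.subtype le_sup_right
    have hR' := R'.normal_of_normalizerCondition Group.normalizerCondition_of_isNilpotent
    rw [Sylow.coe_subtype, Subgroup.normal_subgroupOf_iff_le_normalizer le_sup_right] at hR'
    exact hSR (le_sup_left.trans hR')
  obtain ⟨a, ha⟩ := IsPGroup.iff_card.1 S.2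
  obtain ⟨b, hb⟩ := IsPGroup.iff_card.1 R.2
  have hcard : Nat.card T = p ^ a * r ^ b := by
    rw [hT, sup_comm, SZ.card_sup_of_coprime, ha, hb, mul_comm]
    rw [ha, hb]
    exact ((Nat.coprime_primes hr Fact.out).2 (Ne.symm hpr)).pow _ _
  rw [hTtop, Subgroup.card_top] at hcard
  refine ⟨inferInstance, ⟨p, r, a, b, Fact.out, hr, hpr, hcard⟩, p, S, Fact.out, ?_, hSn, hSinv⟩
  by_contra hpd
  refine hSR ?_
  have : (S : Subgroup G) = ⊥ := by
    rw [eq_bot_iff_card, ha]
    rcases Nat.eq_zero_or_pos a with h | h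
    · rw [h, pow_zero]
    · exact absurd ((dvd_pow_self p h.ne').trans (Dvd.intro _ hcard.symm)) hpd
  rw [this]; exact bot_le

end Cfsg.Agent.Lib.OddCond
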