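import Mathlib
import Cfsg.Agent.Lib.OddCond.Basic
import Cfsg.Agent.Lib.StandardAlt.Main

/-!
The alternatives for a standard subgroup, given the odd order theorem.
-/

set_option autoImplicit false

universe u

namespace Cfsg.Agent.Lib.OddCond

variable {G : Type u} [Group G]

theorem two_dvd_card_of_quasisimple (hFT : OddSolvable.{u}) [Finite G] {A : Subgroup G}
    (h : Cfsg.IsQuasisimple A) : 2 ∣ Nat.card A := by
  by_contra hne
  exact Components.quasisimple_not_isSolvable h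
    (hFT A (Nat.not_even_iff_odd.1 fun he => hne (even_iff_two_dvd.1 he)))

theorem standard_trichotomy (hFT : OddSolvable.{u}) [Finite G] (A : Subgroup G)
    (hA : Cfsg.IsStandardSubgroup A) (hO : Cfsg.oddCore G = ⊥) (t : G) (ht : orderOf t = 2)
    (htA : t ∈ Subgroup.centralizer (A : Set G)) :
    A.Normal ∨ (∃ X : Subgroup G, IsSimpleGroup ↥X ∧ ¬ IsMulCommutative ↥X ∧ Nonempty (↥X ≃* ↥A) ∧
      (∀ a ∈ X, ∀ b ∈ X.map (MulAut.conj t).toMonoidHom, a * b = b * a) ∧
      X ⊓ X.map (MulAut.conj t).toMonoidHom = ⊥ ∧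
      X ⊔ X.map (MulAut.conj t).toMonoidHom = Cfsg.layer G ∧
      Subgroup.centralizer (A : Set G) = Subgroup.zpowers t) ∨
    (A ≤ Cfsg.layer G ∧ IsSimpleGroup ↥(Cfsg.layer G) ∧ ¬ IsMulCommutative ↥(Cfsg.layer G)) :=
  StandardAlt.trichotomy hA hO ht htA
    (StandardAlt.le_layer_of_even hA hO ht htA (two_dvd_card_of_quasisimple hFT hA.1))

end Cfsg.Agent.Lib.OddCond
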