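import Mathlib
import Cfsg.Agent.Lib.OddCond.Standard
import Cfsg.Agent.Lib.StandardAlt.CentralizerComponent

/-!
Components of centralizers of involutions, given the odd order theorem.
-/

set_option autoImplicit false

universe u

namespace Cfsg.Agent.Lib.OddCond

variable {G : Type u} [Group G]

open Cfsg.Agent.Lib.Components in
theorem centralizer_component_trichotomy (hFT : OddSolvable.{u}) [Finite G]
    (hL2 : Cfsg.pLayer 2 G = Cfsg.layer G) (t : G) (ht : orderOf t = 2) (L : Subgroup G)
    (hLt : L ≤ Subgroup.centralizer ({t} : Set G))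
    (hL : Cfsg.IsComponent (L.subgroupOf (Subgroup.centralizer ({t} : Set G)))) :
    ∃ D : Subgroup G, Cfsg.IsComponent D ∧ (L = D ∨ (L < D ∧ D = ⁅D, Subgroup.zpowers t⁆) ∨
      (D.map (MulAut.conj t).toMonoidHom ≠ D ∧
        L = (Cfsg.layer ↥((D ⊔ D.map (MulAut.conj t).toMonoidHom) ⊓
            Subgroup.centralizer ({t} : Set G))).map
          ((D ⊔ D.map (MulAut.conj t).toMonoidHom) ⊓
            Subgroup.centralizer ({t} : Set G)).subtype)) := by
  haveI : Fact (Nat.Prime 2) := ⟨Nat.prime_two⟩
  have hC : Subgroup.centralizer ((Subgroup.zpowers t : Subgroup G) : Set G) =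
      Subgroup.centralizer ({t} : Set G) := by
    rw [Subgroup.zpowers_eq_closure, Subgroup.centralizer_closure]
  have hT : IsPGroup 2 (Subgroup.zpowers t) :=
    IsPGroup.of_card (n := 1) (by rw [Nat.card_zpowers, ht, pow_one])
  have hb := ZStar.LBalance.pLayer_centralizer_le hT
  rw [hC, hL2] at hb
  have hev := two_dvd_card_of_quasisimple hFT hL.2
  have hLE : L ≤ Cfsg.layer G := by
    rw [← Subgroup.map_subgroupOf_eq_of_le hLt]
    exact (Subgroup.map_mono
      (isPComponent_le_pLayer (isComponent_isPComponent (p := 2) hL hev))).trans hb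
  exact StandardAlt.centralizer_component_trichotomy
    (by rw [← sq, ← ht, pow_orderOf_eq_one]) hLt hL hLE

end Cfsg.Agent.Lib.OddCond
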