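import Cfsg.Agent.Lib.OddCond.Basic
import Cfsg.Agent.Lib.Elem69.RealOdd

/-!
A group in which no subgroup has two coprime nontrivial class sizes, given the odd order theorem.
-/

set_option autoImplicit false

universe u

namespace Cfsg.Agent.Lib.OddCond

/-- An element of odd prime order inverted by `g` yields a subgroup with coprime class sizes
`2` and `p`. -/
theorem classGraph_inverted {K : Type u} [Group K] [Finite K] {p : ℕ} (hp : p.Prime)
    (hodd : Odd p) {x g : K} (hx : orderOf x = p) (hg : g * x * g⁻¹ = x⁻¹) :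
    ∃ (H : Subgroup K) (a b : H), (Subgroup.centralizer ({a} : Set H)).index = 2 ∧
      (Subgroup.centralizer ({b} : Set H)).index = p := by
  set H := Subgroup.closure ({x, g} : Set K) with hH
  have hxH : x ∈ H := Subgroup.subset_closure (Set.mem_insert _ _)
  have hgH : g ∈ H := Subgroup.subset_closure (Set.mem_insert_of_mem _ rfl)
  have hne : x⁻¹ ≠ x := by
    intro h
    have h2 : x ^ 2 = 1 := by
      rw [pow_two]
      nth_rewrite 1 [← h]
      exact inv_mul_cancel x
    have := orderOf_dvd_of_pow_eq_one h2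
    rw [hx] at this
    have h3 := (Nat.prime_dvd_prime_iff_eq hp Nat.prime_two).1 this
    subst h3
    exact absurd hodd (by decide)
  have hxne : x ≠ 1 := by
    intro h
    apply hne
    rw [h, inv_one]
  have key : ∀ h ∈ H, (h * x * h⁻¹ = x ∨ h * x * h⁻¹ = x⁻¹) ∧
      ∃ n : ℤ, h * g * h⁻¹ = x ^ n * g := by
    intro h hh
    induction hh using Subgroup.closure_induction with
    | mem y hy =>
      rcases hy with rfl | rfl
      · refine ⟨Or.inl (by group), 2, ?_⟩
        have h1 : g * y⁻¹ * g⁻¹ = y := by rw [← conj_inv, hg, inv_inv]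
        have h2 : g * y⁻¹ = y * g := mul_inv_eq_iff_eq_mul.1 h1
        calc y * g * y⁻¹ = y * (g * y⁻¹) := by group
          _ = y ^ (2 : ℤ) * g := by rw [h2, zpow_two, mul_assoc]
      · exact ⟨Or.inr hg, 0, by group⟩
    | one => exact ⟨Or.inl (by group), 0, by group⟩
    | mul a b _ _ ha hb =>
      obtain ⟨n, hn⟩ := hb.2
      obtain ⟨m, hm⟩ := ha.2
      refine ⟨?_, ?_⟩
      · have e : a * b * x * (a * b)⁻¹ = a * (b * x * b⁻¹) * a⁻¹ := by group
        rcases hb.1 with hb | hb <;> rw [e, hb]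
        · exact ha.1
        · rw [← conj_inv]
          rcases ha.1 with ha | ha <;> rw [ha]
          · exact Or.inr rfl
          · exact Or.inl (inv_inv x)
      · have e : a * b * g * (a * b)⁻¹ = a * (b * g * b⁻¹) * a⁻¹ := by group
        have e2 : a * (x ^ n * g) * a⁻¹ = (a * x * a⁻¹) ^ n * (a * g * a⁻¹) := by
          rw [conj_zpow]; group
        rcases ha.1 with ha | ha
        · exact ⟨n + m, by rw [e, hn, e2, ha, hm, ← mul_assoc, ← zpow_add]⟩
        · exact ⟨-n + m, by rw [e, hn, e2, ha, hm, ← mul_assoc, inv_zpow', ← zpow_add]⟩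
    | inv a _ ha =>
      obtain ⟨m, hm⟩ := ha.2
      have h1 : a⁻¹ * x * a⁻¹⁻¹ = x ∨ a⁻¹ * x * a⁻¹⁻¹ = x⁻¹ := by
        rcases ha.1 with ha | ha
        · left
          nth_rewrite 1 [← ha]
          group
        · right
          have h2 : a * x⁻¹ * a⁻¹ = x := by rw [← conj_inv, ha, inv_inv]
          nth_rewrite 1 [← h2]
          group
      refine ⟨h1, ?_⟩
      have h3 : g = x ^ (-m) * (a * g * a⁻¹) := by rw [hm]; group
      have h4 : a⁻¹ * g * a⁻¹⁻¹ = (a⁻¹ * x * a⁻¹⁻¹) ^ (-m) * g := by
        rw [conj_zpow]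
        nth_rewrite 1 [h3]
        group
      rcases h1 with h1 | h1
      · exact ⟨-m, by rw [h4, h1]⟩
      · exact ⟨m, by rw [h4, h1, inv_zpow', neg_neg]⟩
  refine ⟨H, ⟨x, hxH⟩, ⟨g, hgH⟩, ?_, ?_⟩
  · rw [Subgroup.index_eq_two_iff]
    refine ⟨⟨g, hgH⟩, fun b => ?_⟩
    simp only [Subgroup.mem_centralizer_singleton_iff, Subtype.ext_iff, Subgroup.coe_mul]
    obtain ⟨b, hb⟩ := b
    have e : ∀ y z : K, y * x = x * y ↔ y * x * y⁻¹ = x := fun y z => mul_inv_eq_iff_eq_mul.symm
    rw [e _ 1, e _ 1]
    have e2 : b * g * x * (b * g)⁻¹ = (b * x * b⁻¹)⁻¹ := by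
      rw [show b * g * x * (b * g)⁻¹ = b * (g * x * g⁻¹) * b⁻¹ by group, hg]
      group
    rw [e2]
    rcases (key b hb).1 with h | h <;> rw [h]
    · exact Or.inr ⟨rfl, hne⟩
    · exact Or.inl ⟨inv_inv x, hne⟩
  · have hc : Subgroup.IsComplement' (Subgroup.zpowers (⟨x, hxH⟩ : H))
        (Subgroup.centralizer ({(⟨g, hgH⟩ : H)} : Set H)) := by
      haveI : Fact p.Prime := ⟨hp⟩
      apply Subgroup.isComplement'_of_disjoint_and_mul_eq_univ
      · rw [Subgroup.disjoint_def]
        intro y hy hy'
        by_contra hyne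
        have hcard : Nat.card (Subgroup.zpowers (⟨x, hxH⟩ : H)) = p := by
          rw [Nat.card_zpowers, ← hx, Subgroup.orderOf_mk]
        have htop := Subgroup.eq_bot_or_eq_top_of_prime_card
          ((Subgroup.centralizer ({(⟨g, hgH⟩ : H)} : Set H)).subgroupOf
            (Subgroup.zpowers (⟨x, hxH⟩ : H))) (hp := by rw [hcard]; infer_instance)
        rcases htop with h | h
        · apply hyne
          have : (⟨y, hy⟩ : Subgroup.zpowers (⟨x, hxH⟩ : H)) ∈
              (Subgroup.centralizer ({(⟨g, hgH⟩ : H)} : Set H)).subgroupOf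
                (Subgroup.zpowers (⟨x, hxH⟩ : H)) := hy'
          rw [h, Subgroup.mem_bot] at this
          exact congrArg Subtype.val this
        · have h5 := Subgroup.subgroupOf_eq_top.1 h (Subgroup.mem_zpowers _)
          rw [Subgroup.mem_centralizer_singleton_iff, Subtype.ext_iff] at h5
          simp only [Subgroup.coe_mul] at h5
          exact hne (by rw [← hg, ← h5, mul_inv_cancel_right])
      · rw [Set.eq_univ_iff_forall]
        rintro ⟨h, hh⟩
        obtain ⟨n, hn⟩ := (key h hh).2
        obtain ⟨k, hk⟩ := hodd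
        set b : ℤ := n * ((k : ℤ) + 1) with hb
        have hxb : x ^ n = x ^ (2 * b) := by
          apply zpow_eq_zpow_iff_modEq.2
          rw [hx, Int.modEq_iff_dvd]
          refine ⟨n, ?_⟩
          rw [hb, hk]
          push_cast
          ring
        rw [Set.mem_mul]
        refine ⟨(⟨x, hxH⟩ : H) ^ b, ⟨b, rfl⟩, ((⟨x, hxH⟩ : H) ^ b)⁻¹ * ⟨h, hh⟩, ?_,
          mul_inv_cancel_left _ _⟩
        rw [SetLike.mem_coe, Subgroup.mem_centralizer_singleton_iff, Subtype.ext_iff]
        simp only [Subgroup.coe_mul, Subgroup.coe_inv, Subgroup.coe_zpow]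
        have hgx : g * x ^ (-b) * g⁻¹ = x ^ b := by
          rw [← conj_zpow, hg, inv_zpow', neg_neg]
        have h6 : h * g = x ^ (2 * b) * g * h := by
          rw [← hxb, ← hn]; group
        have h7 : g * x ^ (-b) = x ^ b * g := by
          rw [← hgx]; group
        calc (x ^ b)⁻¹ * h * g = (x ^ b)⁻¹ * (h * g) := by group
          _ = x ^ b * g * h := by rw [h6]; group
          _ = g * x ^ (-b) * h := by rw [h7]
          _ = g * ((x ^ b)⁻¹ * h) := by group
    rw [hc.index_eq_card, Nat.card_zpowers, Subgroup.orderOf_mk, hx]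

variable {G : Type u} [Group G] [Finite G]

/-- If any two nontrivial class sizes in every subgroup are non-coprime, `G` is solvable. -/
theorem isSolvable_of_classGraph_complete (hFT : OddSolvable.{u})
    (h : ∀ (H : Subgroup G) (x y : H), 1 < (Subgroup.centralizer ({x} : Set H)).index →
      1 < (Subgroup.centralizer ({y} : Set H)).index →
      ¬ ((Subgroup.centralizer ({x} : Set H)).index).Coprime
        (Subgroup.centralizer ({y} : Set H)).index) :
    Group.IsSolvable G := by
  obtain ⟨P⟩ : Nonempty (Sylow 2 G) := inferInstance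
  haveI : Fact (Nat.Prime 2) := ⟨Nat.prime_two⟩
  have hP : (P : Subgroup G).Normal := by
    refine Elem69.sylow_two_normal_of_no_real_odd (fun x g hx hg => ?_) P
    by_contra hne
    have h1 : orderOf x ≠ 1 := fun h' => hne (orderOf_eq_one_iff.1 h')
    obtain ⟨p, hp, hdvd⟩ := Nat.exists_prime_and_dvd h1
    have hpodd : Odd p := hx.of_dvd_nat hdvd
    set y := x ^ (orderOf x / p) with hy
    have hyo : orderOf y = p := orderOf_pow_orderOf_div (orderOf_pos x).ne' hdvd
    have hgy : g * y * g⁻¹ = y⁻¹ := by rw [hy, ← conj_pow, hg, inv_pow]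
    obtain ⟨H, a, b, ha, hb⟩ := classGraph_inverted hp hpodd hyo hgy
    apply h H a b (by omega) (by rw [hb]; exact hp.one_lt)
    rw [ha, hb]
    exact Nat.coprime_two_left.2 hpodd
  haveI := hP
  haveI : Group.IsSolvable (P : Subgroup G) := isPGroup_isSolvable P.2
  haveI : Group.IsSolvable (G ⧸ (P : Subgroup G)) := by
    refine hFT _ ?_
    rw [← Subgroup.index_eq_card, ← Nat.not_even_iff_odd, even_iff_two_dvd]
    exact P.not_dvd_index
  exact (Group.isSolvable_iff_subgroup_quotient (P : Subgroup G)).2 ⟨inferInstance, inferInstance⟩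

end Cfsg.Agent.Lib.OddCond
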