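import Cfsg.Agent.Lib.OddCond.Basic
import Cfsg.Agent.Lib.ClassSize.SmallestPrime

/-!
Solvability from class sizes, given the odd order theorem.
-/

set_option autoImplicit false

universe u

namespace Cfsg.Agent.Lib.OddCond

variable {G : Type u} [Group G] [Finite G]

theorem isSolvable_of_not_four_dvd (hFT : OddSolvable.{u})
    (h : ∀ x : G, ¬ 4 ∣ (Subgroup.centralizer ({x} : Set G)).index) : Group.IsSolvable G := by
  haveI : Fact (Nat.Prime 2) := ⟨Nat.prime_two⟩
  exact isSolvable_of_hasNormalPComplement_two hFT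
    (ClassSize.hasNormalPComplement_of_not_sq_dvd (p := 2) _ G rfl (fun r hr _ => hr.two_le) h)

end Cfsg.Agent.Lib.OddCond
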