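import Mathlib
import Cfsg.Prelude.Def_Local
import Cfsg.Agent.Lib.OddCond.Basic
import Cfsg.Agent.Lib.Components.BalanceBasic
import Cfsg.Agent.Lib.CharP.Fitting
import Cfsg.Agent.Lib.CoreSeparated.Basic
import Cfsg.Agent.Lib.PSolvable.ConstrainedExt
import Cfsg.Agent.Lib.PSolvable.Constrained
import Cfsg.Agent.Lib.Signalizer.Solvable
import Cfsg.Agent.S0502
import Cfsg.Agent.S0520

/-!
Groups all of whose 2-local subgroups are 2-constrained, with the odd order theorem as an explicit
hypothesis: the cores `O(C(b))` over any subgroup of 2-rank at least two of a Sylow 2-subgroup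
having a normal elementary abelian subgroup of order eight generate one subgroup of odd order
(solvable signalizer functor theorem and connectivity).  Written by helper7.
-/

set_option autoImplicit false

namespace Cfsg.Agent.Lib.OddCond.ConstrainedCores

open Cfsg Subgroup

universe u

variable {G : Type u} [Group G] [Finite G]

theorem pLayer_eq_bot_of_isPConstrained {X : Type u} [Group X] [Finite X] {p : ℕ} [Fact p.Prime]
    (h : IsPConstrained p X) : pLayer p X = ⊥ := by
  have h1 := CharP.generalizedFittingSubgroup_eq_pCore (PSolvable.isPConstrained_iff.mp h)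
  have h2 : layer (X ⧸ pPrimeCore p X) = ⊥ :=
    (Components.generalizedFittingSubgroup_eq_pCore_iff.mp h1).1
  refine eq_bot_iff.mpr (sSup_le fun K hK => ?_)
  exfalso
  exact Components.isComponent_ne_bot hK.2.1
    (le_bot_iff.mp (h2 ▸ Components.isComponent_le_layer hK.2.1))

/-- The standing hypothesis. -/
def LocallyConstrained (G : Type u) [Group G] : Prop :=
  ∀ T : Subgroup G, IsPGroup 2 T → T ≠ ⊥ →
    IsPConstrained 2 ↥(Subgroup.normalizer (T : Set G))

/-- The odd core of a centralizer. -/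
abbrev θ (x : G) : Subgroup G := centralizerPPrimeCore 2 x

theorem pLayer_centralizer (h2c : LocallyConstrained G) {b : G} (hb : IsPGroup 2 (zpowers b))
    (hb1 : b ≠ 1) : pLayer 2 ↥(centralizer ({b} : Set G)) = ⊥ := by
  haveI : Fact (Nat.Prime 2) := ⟨Nat.prime_two⟩
  refine pLayer_eq_bot_of_isPConstrained ?_
  set N := normalizer (zpowers b : Set G) with hN
  have hNc : IsPConstrained 2 N := h2c _ hb (by rwa [Ne, zpowers_eq_bot])
  have hP : IsPGroup 2 ((zpowers b).subgroupOf N) := hb.comap_subtype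
  have hCN : centralizer ({b} : Set G) ≤ N := by
    refine fun x hx => centralizer_le_normalizer _ (mem_centralizer_iff.2 fun y hy => ?_)
    obtain ⟨i, rfl⟩ := mem_zpowers_iff.1 hy
    exact ((Commute.zpow_right (show Commute x b from mem_centralizer_singleton_iff.1 hx) i).eq).symm
  have e : centralizer (((zpowers b).subgroupOf N : Subgroup N) : Set N) =
      (centralizer ({b} : Set G)).subgroupOf N := by
    ext x
    rw [mem_subgroupOf, mem_centralizer_singleton_iff, mem_centralizer_iff]
    constructor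
    · intro h
      exact (congrArg Subtype.val (h ⟨b, le_normalizer (mem_zpowers b)⟩
        (mem_zpowers b : b ∈ zpowers b))).symm
    · rintro h y hy
      obtain ⟨i, hi⟩ := mem_zpowers_iff.1 (show (y : G) ∈ zpowers b from hy)
      refine Subtype.ext ?_
      show (y : G) * x = x * y
      rw [← hi]
      exact ((Commute.zpow_right (show Commute (x : G) b from h) i).eq).symm
  have h1 := PSolvable.isPConstrained_centralizer hNc hP
  rw [e] at h1
  exact PSolvable.isPConstrained_congr (subgroupOfEquivOfLe hCN) h1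

theorem balance (h2c : LocallyConstrained G) {a b : G} (ha : IsPGroup 2 (zpowers a))
    (hb : IsPGroup 2 (zpowers b)) (hb1 : b ≠ 1) (hab : Commute a b) :
    θ a ⊓ centralizer {b} ≤ θ b :=
  haveI : Fact (Nat.Prime 2) := ⟨Nat.prime_two⟩
  Components.centralizerPPrimeCore_inf_le (pLayer_centralizer h2c hb hb1) ha hab

theorem θ_not_dvd (x : G) : ¬ 2 ∣ Nat.card ↥(θ x) := by
  haveI : Fact (Nat.Prime 2) := ⟨Nat.prime_two⟩
  exact (Nat.Prime.coprime_iff_not_dvd Nat.prime_two).mp
    (Components.centralizerPPrimeCore_coprime x).symm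

theorem θ_solvable (hFT : OddSolvable.{u}) (x : G) : Group.IsSolvable ↥(θ x) :=
  hFT _ (Nat.not_even_iff_odd.1 fun he => θ_not_dvd x (even_iff_two_dvd.1 he))

theorem θ_conj (x g : G) :
    θ (g * x * g⁻¹) = (θ x).map (MulAut.conj g).toMonoidHom := by
  refine le_antisymm ?_ ?_
  · intro z hz
    refine ⟨g⁻¹ * z * g, CoreSeparated.mem_centralizerPPrimeCore_of_injective
      (MulAut.conj g).toMonoidHom (MulAut.conj g).injective ?_, ?_⟩
    · simpa [mul_assoc] using hz
    · show g * (g⁻¹ * z * g) * g⁻¹ = z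
      group
  · rintro _ ⟨y, hy, rfl⟩
    refine CoreSeparated.mem_centralizerPPrimeCore_of_injective (MulAut.conj g⁻¹).toMonoidHom
      (MulAut.conj g⁻¹).injective ?_
    simpa [mul_assoc] using hy

theorem isPGroup_zpowers_of_mem {B : Subgroup G} (hB : IsPGroup 2 B) {b : G} (hb : b ∈ B) :
    IsPGroup 2 (zpowers b) :=
  hB.to_le (zpowers_le.2 hb)

theorem functor (hFT : OddSolvable.{u}) (h2c : LocallyConstrained G) {A : Subgroup G}
    (hA : IsElementaryAbelian 2 A) : IsSolvableSignalizerFunctor 2 A θ := by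
  haveI : Fact (Nat.Prime 2) := ⟨Nat.prime_two⟩
  have h2 := SignalizerFamily.isPGroup_of_isElementaryAbelian hA
  refine ⟨⟨fun a _ _ => Components.centralizerPPrimeCore_le_centralizer a,
    fun a _ _ => θ_not_dvd a, fun a ha _ b hb x hx => ?_, fun a ha _ b hb hb1 => ?_⟩,
    fun a _ _ => θ_solvable hFT a⟩
  · have h := (θ_conj a b).symm.le (mem_map_of_mem _ hx)
    rw [SignalizerFamily.comm_of_isElementaryAbelian hA hb ha, mul_inv_cancel_right] at h
    exact h
  · exact balance h2c (isPGroup_zpowers_of_mem h2 ha) (isPGroup_zpowers_of_mem h2 hb) hb1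
      (SignalizerFamily.comm_of_isElementaryAbelian hA ha hb)

/-- The subgroup generated by the cores over `B`. -/
abbrev span (B : Subgroup G) : Subgroup G :=
  ⨆ b : {b : G // b ∈ B ∧ b ≠ 1}, θ (b : G)

theorem θ_le_span {B : Subgroup G} {b : G} (hb : b ∈ B) (hb1 : b ≠ 1) : θ b ≤ span B :=
  le_iSup (fun b : {b : G // b ∈ B ∧ b ≠ 1} => θ (b : G)) ⟨b, hb, hb1⟩

theorem span_mono {B D : Subgroup G} (h : B ≤ D) : span B ≤ span D :=
  iSup_le fun b => θ_le_span (h b.2.1) b.2.2

/-- The closure over an elementary abelian group of rank three is generated by any four-group. -/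
theorem span_eq_of_le (hFT : OddSolvable.{u}) (h2c : LocallyConstrained G) {D U : Subgroup G}
    (hD : IsElementaryAbelian 2 D) (hU : U ≤ D) (hU4 : 4 ≤ Nat.card U) : span D = span U := by
  haveI : Fact (Nat.Prime 2) := ⟨Nat.prime_two⟩
  exact le_antisymm (SignalizerSolvable.signalizerClosure_le hD (functor hFT h2c hD) hU hU4
    fun a ha ha1 => θ_le_span ha ha1) (span_mono hU)

theorem eq_of_adj (hFT : OddSolvable.{u}) (h2c : LocallyConstrained G) {U V : Subgroup G}
    (h : S0520.adj G U V) : span U = span V := by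
  obtain ⟨hU, hV, hc⟩ := h
  haveI := hU
  haveI := hV
  set D := closure ((U : Set G) ∪ V) with hD
  have hcomm : ∀ x ∈ (U : Set G) ∪ V, ∀ y ∈ (U : Set G) ∪ V, x * y = y * x := by
    have hin : ∀ {W : Subgroup G} [IsKleinFour W], ∀ x ∈ W, ∀ y ∈ W, x * y = y * x :=
      fun {W} _ x hx y hy => congrArg Subtype.val
        (mul_comm_of_exponent_two IsKleinFour.exponent_two (⟨x, hx⟩ : W) ⟨y, hy⟩)
    rintro x (hx | hx) y (hy | hy)
    exacts [hin x hx y hy, hc x hx y hy, (hc y hy x hx).symm, hin x hx y hy]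
  have hDcomm : IsMulCommutative D := Subgroup.isMulCommutative_closure hcomm
  have hDe : IsElementaryAbelian 2 D := by
    refine ⟨hDcomm, fun x hx => ?_⟩
    rw [hD] at hx
    induction hx using Subgroup.closure_induction with
    | mem y hy =>
      rcases hy with hy | hy
      exacts [S0520.sq_eq_one (A := U) hy, S0520.sq_eq_one (A := V) hy]
    | one => exact one_pow 2
    | mul y z hy hz h1 h2 =>
      have hyz : Commute y z := congrArg Subtype.val
        (hDcomm.is_comm.comm (⟨y, hy⟩ : D) ⟨z, hz⟩)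
      rw [hyz.mul_pow, h1, h2, one_mul]
    | inv y _ h1 => rw [inv_pow, h1, inv_one]
  have hUD : U ≤ D := fun x hx => subset_closure (Or.inl hx)
  have hVD : V ≤ D := fun x hx => subset_closure (Or.inr hx)
  rw [← span_eq_of_le hFT h2c hDe hUD IsKleinFour.card_four.ge,
    ← span_eq_of_le hFT h2c hDe hVD IsKleinFour.card_four.ge]

theorem eq_of_reach (hFT : OddSolvable.{u}) (h2c : LocallyConstrained G) {U V : Subgroup G}
    (h : Relation.ReflTransGen (S0520.adj G) U V) : span U = span V := by
  induction h with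
  | refl => rfl
  | tail _ hbc ih => exact ih.trans (eq_of_adj hFT h2c hbc)

/-- The four-group generated by two commuting involutions. -/
theorem exists_klein_pair {u z : G} (hu : orderOf u = 2) (hz : orderOf z = 2) (hne : u ≠ z)
    (hc : Commute u z) {T : Subgroup G} (huT : u ∈ T) (hzT : z ∈ T) :
    ∃ V : Subgroup G, V ≤ T ∧ IsKleinFour V ∧ z ∈ V := by
  classical
  have hu2 : u * u = 1 := by rw [← sq, ← hu, pow_orderOf_eq_one]
  have hz2 : z * z = 1 := by rw [← sq, ← hz, pow_orderOf_eq_one]
  have hu1 : u ≠ 1 := fun h => by rw [h, orderOf_one] at hu; omega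
  have hz1 : z ≠ 1 := fun h => by rw [h, orderOf_one] at hz; omega
  have hinvu : u⁻¹ = u := inv_eq_of_mul_eq_one_right hu2
  have hinvz : z⁻¹ = z := inv_eq_of_mul_eq_one_right hz2
  have e1 : z * u = u * z := hc.eq.symm
  have hx : ∀ x : G, u * (u * x) = x := fun x => by rw [← mul_assoc, hu2, one_mul]
  have hy : ∀ x : G, z * (z * x) = x := fun x => by rw [← mul_assoc, hz2, one_mul]
  have hzu : ∀ x : G, z * (u * x) = u * (z * x) := fun x => by rw [← mul_assoc, e1, mul_assoc]
  let V : Subgroup G :=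
    { carrier := {1, u, z, u * z}
      one_mem' := by simp
      mul_mem' := fun {a b} ha hb => by
        simp only [Set.mem_insert_iff, Set.mem_singleton_iff] at ha hb ⊢
        rcases ha with rfl | rfl | rfl | rfl <;> rcases hb with rfl | rfl | rfl | rfl <;>
          simp [hu2, hz2, e1, hx, hy, hzu, mul_assoc]
      inv_mem' := fun {a} ha => by
        simp only [Set.mem_insert_iff, Set.mem_singleton_iff] at ha ⊢
        rcases ha with rfl | rfl | rfl | rfl <;> simp [mul_inv_rev, hinvu, hinvz, e1] }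
  refine ⟨V, ?_, S0520.isKleinFour_mk ?_ ?_, ?_⟩
  · rintro x (rfl | rfl | rfl | rfl)
    exacts [one_mem _, huT, hzT, mul_mem huT hzT]
  · have h1 : u * z ≠ 1 := fun h => hne (by rw [eq_inv_of_mul_eq_one_left h, hinvz])
    have hT : (V : Set G) = (({1, u, z, u * z} : Finset G) : Set G) := by
      simp only [Finset.coe_insert, Finset.coe_singleton]
      rfl
    show Nat.card ↥(V : Set G) = 4
    rw [Nat.card_coe_set_eq, hT, Set.ncard_coe_finset, Finset.card_insert_of_notMem,
      Finset.card_insert_of_notMem, Finset.card_insert_of_notMem, Finset.card_singleton]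
    · simp only [Finset.mem_singleton]
      intro h
      exact hu1 (mul_right_cancel (h.symm.trans (one_mul z).symm))
    · simp only [Finset.mem_insert, Finset.mem_singleton, not_or]
      exact ⟨hne, fun h => hz1 (mul_left_cancel (h.symm.trans (mul_one u).symm))⟩
    · simp only [Finset.mem_insert, Finset.mem_singleton, not_or]
      exact ⟨Ne.symm hu1, Ne.symm hz1, Ne.symm h1⟩
  · rintro x (rfl | rfl | rfl | rfl)
    · exact one_pow 2
    · rw [sq, hu2]
    · rw [sq, hz2]
    · rw [sq, mul_assoc, hzu, hz2, mul_one, hu2]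
  · exact Or.inr (Or.inr (Or.inl rfl))

/-- The theorem on the cores. -/
theorem exists_core_closure (hFT : OddSolvable.{u}) (h2c : LocallyConstrained G) (S : Sylow 2 G)
    (A : Subgroup ↥(S : Subgroup G)) (hAn : A.Normal) (hAab : IsMulCommutative ↥A)
    (hA3 : ¬ PRankLE 2 2 ↥A) (S' : Sylow 2 G) :
    ∃ W : Subgroup G, Odd (Nat.card ↥W) ∧
      ∀ B : Subgroup G, B ≤ (S' : Subgroup G) → ¬ PRankLE 2 1 ↥B →
        W = span B ∧ normalizer (B : Set G) ≤ normalizer (W : Set G) := by
  haveI : Fact (Nat.Prime 2) := ⟨Nat.prime_two⟩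
  -- a normal elementary abelian subgroup of order at least eight of `S'`
  haveI := hAn
  let E₀ : Subgroup ↥(S : Subgroup G) :=
    { carrier := {x | x ∈ A ∧ x ^ 2 = 1}
      one_mem' := ⟨one_mem _, one_pow 2⟩
      mul_mem' := fun {x y} hx hy => ⟨mul_mem hx.1 hy.1, by
        have hc : Commute x y := congrArg Subtype.val (hAab.is_comm.comm (⟨x, hx.1⟩ : A) ⟨y, hy.1⟩)
        rw [hc.mul_pow, hx.2, hy.2, one_mul]⟩
      inv_mem' := fun {x} hx => ⟨inv_mem hx.1, by rw [inv_pow, hx.2, inv_one]⟩ }
  have hE₀8 : 8 ≤ Nat.card E₀ := by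
    simp only [PRankLE, not_forall, not_le] at hA3
    obtain ⟨X, -, hX2, hX⟩ := hA3
    obtain ⟨k, hk⟩ := IsPGroup.iff_card.1
      (fun x : X => ⟨1, by rw [pow_one]; exact Subtype.ext (hX2 x x.2)⟩ : IsPGroup 2 X)
    have h8 : 8 ≤ Nat.card X := by
      rw [hk] at hX ⊢
      have h2k : 2 < k := (Nat.pow_lt_pow_iff_right (by norm_num)).1 hX
      calc (8 : ℕ) = 2 ^ 3 := rfl
        _ ≤ 2 ^ k := Nat.pow_le_pow_right two_pos h2k
    refine le_trans h8
      (Nat.card_le_card_of_injective
        (fun x : X => (⟨((x : A) : ↥(S : Subgroup G)), (x : A).2,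
          congrArg Subtype.val (hX2 x x.2)⟩ : E₀))
        fun x y h => Subtype.ext (Subtype.ext (congrArg (fun e : E₀ => (e : ↥(S : Subgroup G))) h)))
  haveI : E₀.Normal := ⟨fun x hx g => ⟨hAn.conj_mem x hx.1 g, by rw [conj_pow, hx.2, mul_one, mul_inv_cancel]⟩⟩
  let e := S.equiv S'
  set E₁ := E₀.map e.toMonoidHom with hE₁def
  haveI : E₁.Normal := Subgroup.Normal.map inferInstance e.toMonoidHom e.surjective
  have hE₁ab : IsMulCommutative E₁ := ⟨⟨by
    rintro ⟨_, x, hx, rfl⟩ ⟨_, y, hy, rfl⟩
    refine Subtype.ext ?_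
    show e x * e y = e y * e x
    rw [← map_mul, ← map_mul]
    exact congrArg e (congrArg Subtype.val (hAab.is_comm.comm (⟨x, hx.1⟩ : A) ⟨y, hy.1⟩))⟩⟩
  have hE₁2 : ∀ x ∈ E₁, x ^ 2 = 1 := by
    rintro _ ⟨x, hx, rfl⟩
    rw [← map_pow, hx.2, map_one]
  have hE₁8 : 8 ≤ Nat.card E₁ := by
    rw [hE₁def, card_map_of_injective (f := e.toMonoidHom) e.injective]; exact hE₀8
  have hconn := Cfsg.Agent.S0502.result S'.2 E₁ hE₁ab hE₁2 hE₁8
  set E := E₁.map (S' : Subgroup G).subtype with hEdef
  have hEe : IsElementaryAbelian 2 E := by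
    refine ⟨⟨⟨?_⟩⟩, ?_⟩
    · rintro ⟨_, x, hx, rfl⟩ ⟨_, y, hy, rfl⟩
      exact Subtype.ext (congrArg (fun e : E₁ => ((e : ↥(S' : Subgroup G)) : G))
        (hE₁ab.is_comm.comm (⟨x, hx⟩ : E₁) ⟨y, hy⟩))
    · rintro _ ⟨x, hx, rfl⟩
      rw [← map_pow, hE₁2 x hx, map_one]
  have hE8 : 2 ^ 3 ≤ Nat.card E := by
    rw [hEdef, card_map_of_injective (S' : Subgroup G).subtype_injective]
    simpa using hE₁8
  have hES : E ≤ (S' : Subgroup G) := map_subtype_le _
  obtain ⟨U₀, hU₀E, hU₀k⟩ := S0520.exists_klein_le (Q := E) (by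
    intro h
    have h1 := h ⊤ ⟨⟨fun x y => Subtype.ext (Subtype.ext
      (SignalizerFamily.comm_of_isElementaryAbelian hEe x.1.2 y.1.2))⟩⟩
      (fun x _ => Subtype.ext (by simpa using hEe.2 (x : G) x.2))
    rw [Subgroup.card_top] at h1
    norm_num at h1 hE8
    omega)
  haveI := hU₀k
  have hU₀S : U₀ ≤ (S' : Subgroup G) := hU₀E.trans hES
  have hspan : span E = span U₀ := span_eq_of_le hFT h2c hEe hU₀E IsKleinFour.card_four.ge
  have hfour : ∀ V : Subgroup G, IsKleinFour V → V ≤ (S' : Subgroup G) → span V = span U₀ := by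
    intro V hV hVS
    haveI := hV
    exact eq_of_reach hFT h2c (S0520.reach_sylow hconn hVS hU₀S)
  refine ⟨span U₀, ?_, fun B hBS hB => ?_⟩
  · have h := (SignalizerSolvable.closure_of_solvable hEe hE8 (functor hFT h2c hEe)).1
    rw [show signalizerClosure E θ = span U₀ from hspan] at h
    exact Nat.not_even_iff_odd.1 fun he => h (even_iff_two_dvd.1 he)
  have hB2 : IsPGroup 2 B := S'.2.to_le hBS
  obtain ⟨U, hUB, hUk⟩ := S0520.exists_klein_le hB
  haveI := hUk
  have hUS : U ≤ (S' : Subgroup G) := hUB.trans hBS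
  -- an involution of the centre of `S'`
  obtain ⟨u, huS, hu2, huc⟩ : ∃ u ∈ (S' : Subgroup G), orderOf u = 2 ∧
      ∀ s ∈ (S' : Subgroup G), Commute u s := by
    haveI : Nontrivial ↥(S' : Subgroup G) := by
      haveI : Nontrivial U := Finite.one_lt_card_iff_nontrivial.1 (by rw [IsKleinFour.card_four]; omega)
      exact (Subgroup.nontrivial_iff_ne_bot _).2 fun h =>
        (Subgroup.nontrivial_iff_ne_bot U).1 ‹_› (le_bot_iff.1 (h ▸ hUS))
    haveI := S'.2.center_nontrivial
    obtain ⟨k, hk0, hk⟩ :=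
      (S'.2.to_subgroup (Subgroup.center ↥(S' : Subgroup G))).nontrivial_iff_card.1 inferInstance
    obtain ⟨c, hc⟩ := exists_prime_orderOf_dvd_card' (G := Subgroup.center ↥(S' : Subgroup G)) 2
      (hk ▸ dvd_pow_self 2 hk0.ne')
    refine ⟨((c : ↥(S' : Subgroup G)) : G), (c : ↥(S' : Subgroup G)).2, ?_, fun s hs => ?_⟩
    · rw [Subgroup.orderOf_coe, Subgroup.orderOf_coe, hc]
    · exact (congrArg Subtype.val (mem_center_iff.1 c.2 ⟨s, hs⟩)).symm
  have hle : ∀ b ∈ B, b ≠ 1 → θ b ≤ span U₀ := by
    intro b hb hb1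
    obtain ⟨k, hk⟩ := IsPGroup.iff_orderOf.1 hB2 ⟨b, hb⟩
    rw [Subgroup.orderOf_mk] at hk
    obtain ⟨j, rfl⟩ : ∃ j, k = j + 1 := ⟨k - 1, by
      rcases Nat.eq_zero_or_pos k with h0 | h0
      · exact absurd (orderOf_eq_one_iff.1 (by rw [hk, h0, pow_zero])) hb1
      · omega⟩
    set z := b ^ 2 ^ j with hz
    have hz2 : orderOf z = 2 := by
      rw [hz, orderOf_pow' _ (pow_ne_zero _ two_ne_zero), hk, pow_succ,
        Nat.gcd_eq_right (dvd_mul_right _ _), Nat.mul_div_cancel_left _ (pow_pos two_pos _)]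
    have hz1 : z ≠ 1 := fun h => by rw [h, orderOf_one] at hz2; omega
    have hzB : z ∈ B := pow_mem hb _
    have h1 : θ b ≤ θ z := by
      refine le_trans (le_inf le_rfl ?_) (balance h2c (isPGroup_zpowers_of_mem hB2 hb)
        (isPGroup_zpowers_of_mem hB2 hzB) hz1 ((Commute.refl b).pow_right _))
      intro x hx
      have hxb := mem_centralizer_singleton_iff.1
        (Components.centralizerPPrimeCore_le_centralizer b hx)
      rw [mem_centralizer_singleton_iff]
      exact (Commute.pow_right (show Commute x b from hxb) _).eq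
    obtain ⟨V, hVS, hVk, hzV⟩ : ∃ V : Subgroup G, V ≤ (S' : Subgroup G) ∧ IsKleinFour V ∧ z ∈ V := by
      by_cases huz : u = z
      · obtain ⟨v, hvU, hv1, hvz⟩ : ∃ v ∈ U, v ≠ 1 ∧ v ≠ z := by
          classical
          by_contra hall
          push Not at hall
          have h4 : Nat.card U ≤ 2 := by
            haveI := Fintype.ofFinite U
            calc Nat.card U ≤ ({1, z} : Finset G).card := by
                  rw [Nat.card_eq_fintype_card, ← Finset.card_univ]
                  refine Finset.card_le_card_of_injOn (fun x : U => (x : G)) (fun x _ => ?_)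
                    Subtype.val_injective.injOn
                  simp only [Finset.coe_insert, Finset.coe_singleton, Set.mem_insert_iff,
                    Set.mem_singleton_iff]
                  by_cases hx : (x : G) = 1
                  · exact Or.inl hx
                  · exact Or.inr (hall x x.2 hx)
              _ ≤ 2 := Finset.card_le_two
          rw [IsKleinFour.card_four] at h4
          omega
        exact exists_klein_pair (orderOf_eq_prime (S0520.sq_eq_one (A := U) hvU) hv1) hz2 hvz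
          (huz ▸ (huc v (hUS hvU)).symm) (hUS hvU) (hBS hzB)
      · exact exists_klein_pair hu2 hz2 huz (huc z (hBS hzB)) huS (hBS hzB)
    exact h1.trans ((θ_le_span hzV hz1).trans (hfour V hVk hVS).le)
  have hW : span U₀ = span B :=
    le_antisymm ((hfour U hUk hUS).ge.trans (span_mono hUB))
      (iSup_le fun b => hle b b.2.1 b.2.2)
  refine ⟨hW, fun g hg => ?_⟩
  have key : ∀ h ∈ normalizer (B : Set G),
      (span U₀).map (MulAut.conj h).toMonoidHom ≤ span U₀ := by
    intro h hh
    rw [hW, Subgroup.map_iSup]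
    refine iSup_le fun b => ?_
    rw [← θ_conj]
    exact θ_le_span ((mem_normalizer_iff.1 hh _).1 b.2.1) fun e => b.2.2 (by simpa using e)
  rw [mem_normalizer_iff]
  intro x
  constructor
  · intro hx
    exact key g hg (mem_map_of_mem _ hx)
  · intro hx
    have := key g⁻¹ (inv_mem hg) (mem_map_of_mem _ hx)
    simpa [mul_assoc] using this

end Cfsg.Agent.Lib.OddCond.ConstrainedCores
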