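import Mathlib
import Cfsg.Agent.Lib.OddCond.Basic
import Cfsg.Agent.Lib.Hall.Series

/-!
Hall's theorems for π-separable groups, given the odd order theorem.
-/

set_option autoImplicit false
open Pointwise

universe u

namespace Cfsg.Agent.Lib.OddCond

open Cfsg.Agent.Lib.Hall (IsPiNumber HallProperties)

variable {π : Set ℕ}

theorem not_two_dvd_of_isPiNumber {n : ℕ} (h2 : 2 ∉ π) (h : IsPiNumber π n) : ¬ 2 ∣ n :=
  fun hd => h2 (h 2 Nat.prime_two hd)

theorem hallProperties_of_chain (hFT : OddSolvable.{u}) {G : Type u} [Group G] [Finite G] {n : ℕ}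
    (H : Fin (n + 1) → Subgroup G) (h0 : H 0 = ⊥) (hlast : H (Fin.last n) = ⊤) (hmono : Monotone H)
    (hnorm : ∀ i, (H i).Normal)
    (hstep : ∀ i : Fin n, IsPiNumber π ((H i.castSucc).relIndex (H i.succ)) ∨
      IsPiNumber πᶜ ((H i.castSucc).relIndex (H i.succ))) :
    HallProperties π G := by
  refine (Hall.piSeries_of_chain H h0 hlast hmono hnorm fun i => ?_).hallProperties
  rcases hstep i with h | h
  · exact Or.inl h
  refine Or.inr ⟨h, ?_⟩
  by_cases h2 : 2 ∈ π
  · left
    set A := H i.castSucc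
    set B := H i.succ
    haveI : A.Normal := hnorm _
    haveI : Group.IsSolvable (B ⧸ A.subgroupOf B) := hFT _ (by
      rw [← Nat.not_even_iff_odd, even_iff_two_dvd]
      exact fun hd => h 2 Nat.prime_two hd h2)
    obtain ⟨k, hk⟩ := (Group.isSolvable_def (B ⧸ A.subgroupOf B)).1 inferInstance
    refine ⟨k, ?_⟩
    rw [← map_derivedSeries_eq (QuotientGroup.mk'_surjective (A.subgroupOf B)) k,
      Subgroup.map_eq_bot_iff, QuotientGroup.ker_mk'] at hk
    rintro _ ⟨x, hx, rfl⟩
    exact hk hx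
  · right
    intro Q _ _ f _ U hU
    exact hFT U (by
      rw [← Nat.not_even_iff_odd, even_iff_two_dvd]
      exact not_two_dvd_of_isPiNumber h2 hU)

variable {G : Type u} [Group G] [Finite G]

/-- A π-separable group satisfies the Hall theorems. -/
theorem pi_separable (hFT : OddSolvable.{u})
    (hsep : ∃ (n : ℕ) (H : Fin (n + 1) → Subgroup G), H 0 = ⊥ ∧ H (Fin.last n) = ⊤ ∧ Monotone H ∧
      (∀ i, (H i).Normal) ∧
      ∀ i : Fin n, (∀ q : ℕ, q.Prime → q ∣ (H i.castSucc).relIndex (H i.succ) → q ∈ π) ∨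
        (∀ q : ℕ, q.Prime → q ∣ (H i.castSucc).relIndex (H i.succ) → q ∉ π)) :
    (∃ K : Subgroup G, Cfsg.IsPiHall π K) ∧
      (∀ K L : Subgroup G, Cfsg.IsPiHall π K → Cfsg.IsPiHall π L →
        ∃ g : G, L = K.map (MulAut.conj g).toMonoidHom) ∧
      ∀ U : Subgroup G, (∀ q : ℕ, q.Prime → q ∣ Nat.card U → q ∈ π) →
        ∃ K : Subgroup G, Cfsg.IsPiHall π K ∧ U ≤ K := by
  obtain ⟨n, H, h0, hl, hm, hn, hs⟩ := hsep
  have h := hallProperties_of_chain (π := π) hFT H h0 hl hm hn hs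
  refine ⟨h.1, fun K L hK hL => ?_, h.2.2⟩
  obtain ⟨g, hg⟩ := h.2.1 K L hK hL
  exact ⟨g, hg.symm⟩

theorem relIndex_sup_eq (K A : Subgroup G) [A.Normal] : K.relIndex (K ⊔ A) = K.relIndex A := by
  have e1 := Subgroup.relIndex_mul_relIndex (K ⊓ A) K (K ⊔ A) inf_le_left le_sup_left
  have e2 := Subgroup.relIndex_mul_relIndex (K ⊓ A) A (K ⊔ A) inf_le_right le_sup_right
  have hpos : (K ⊓ A).relIndex K ≠ 0 := Subgroup.FiniteIndex.index_ne_zero
  rw [Subgroup.relIndex_sup_right (H := K) (K := A), Subgroup.inf_relIndex_right] at e2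
  rw [Subgroup.inf_relIndex_left] at e1 hpos
  rw [mul_comm (K.relIndex A)] at e2
  exact Nat.eq_of_mul_eq_mul_left (Nat.pos_of_ne_zero hpos) (e1.trans e2.symm)

/-- Hall: an extension of a C_π-group by a C_π-group is a C_π-group. -/
theorem isCPiGroup_extension (hFT : OddSolvable.{u}) (A : Subgroup G) [A.Normal]
    (hA : Cfsg.IsCPiGroup π A) (hQ : Cfsg.IsCPiGroup π (G ⧸ A)) : Cfsg.IsCPiGroup π G := by
  obtain ⟨⟨H0, hH0⟩, hAc⟩ := hA
  obtain ⟨⟨Y0, hY0⟩, hQc⟩ := hQ
  set q := QuotientGroup.mk' A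
  have hqs : Function.Surjective q := QuotientGroup.mk'_surjective A
  set H := H0.map A.subtype with hHdef
  have hHA : H ≤ A := Subgroup.map_subtype_le H0
  have hH0' : H.subgroupOf A = H0 :=
    Subgroup.comap_map_eq_self_of_injective A.subtype_injective H0
  have hHall : Cfsg.IsPiHallOf π H A := Hall.isPiHallOf_iff_isPiHall.2 ⟨hHA, hH0'.symm ▸ hH0⟩
  obtain ⟨-, hHc, hHi⟩ := (Hall.isPiHallOf_iff H A).1 hHall
  set N := Subgroup.normalizer (H : Set G) with hNdef
  -- conjugacy inside `A`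
  have hconjA : ∀ L : Subgroup G, Cfsg.IsPiHallOf π L A → ∃ a : A, MulAut.conj (a : G) • L = H := by
    intro L hL
    obtain ⟨hLA, hL'⟩ := Hall.isPiHallOf_iff_isPiHall.1 hL
    obtain ⟨a, ha⟩ := hAc _ _ hL' hH0
    refine ⟨a, ?_⟩
    have h := congrArg (Subgroup.map A.subtype) ha
    rw [← Hall.conj_smul_eq_map, SZ.map_conj_smul, Subgroup.subgroupOf_map_subtype,
      inf_eq_left.2 hLA] at h
    exact h.symm
  -- Frattini
  have hfrat : ∀ g : G, ∃ a ∈ A, a * g ∈ N := by
    intro g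
    have hc : Nat.card (MulAut.conj g • H : Subgroup G) = Nat.card H := SZ.card_conj_smul g H
    have hle : MulAut.conj g • H ≤ A :=
      (Subgroup.map_mono hHA).trans_eq (SZ.conj_smul_normal g A)
    have hL : Cfsg.IsPiHallOf π (MulAut.conj g • H) A := by
      refine Hall.isPiHallOf_iff_isPiHall.2 ⟨hle, Hall.isPiHall_of_card_eq hH0 ?_⟩
      rw [SZ.card_subgroupOf hle, hc, hHdef, Subgroup.card_map_of_injective A.subtype_injective]
    obtain ⟨a, ha⟩ := hconjA _ hL
    refine ⟨a, a.2, ?_⟩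
    rw [SZ.conj_smul_smul] at ha
    rw [hNdef, Subgroup.mem_normalizer_iff]
    intro x
    constructor
    · intro hx
      rw [← ha, Hall.conj_smul_eq_map]
      exact ⟨x, hx, rfl⟩
    · intro hx
      rw [← ha, Hall.conj_smul_eq_map] at hx
      obtain ⟨y, hy, hyx⟩ := hx
      have : y = x := (MulAut.conj ((a : G) * g)).injective hyx
      exact this ▸ hy
  -- the intermediate groups
  have hK : ∀ X : Subgroup G, A ≤ X → IsPiNumber π (A.relIndex X) →
      HallProperties π (↥(N ⊓ X)) := by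
    intro X hAX hX
    set K := N ⊓ X
    have hHK : H ≤ K := le_inf Subgroup.le_normalizer (hHA.trans hAX)
    haveI : (H.subgroupOf K).Normal :=
      ⟨fun x hx g => (Subgroup.mem_normalizer_iff.1 (Subgroup.mem_inf.1 g.2).1 x).1 hx⟩
    haveI : (A.subgroupOf K).Normal := Subgroup.Normal.subgroupOf inferInstance K
    refine hallProperties_of_chain hFT
      (n := 3) ![⊥, H.subgroupOf K, A.subgroupOf K, ⊤] rfl rfl ?_ ?_ ?_
    · rw [Fin.monotone_iff_le_succ]
      intro i
      fin_cases i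
      · exact bot_le
      · exact Subgroup.comap_mono hHA
      · exact le_top
    · intro i
      fin_cases i
      · exact (inferInstance : (⊥ : Subgroup ↥K).Normal)
      · exact (inferInstance : (H.subgroupOf K).Normal)
      · exact (inferInstance : (A.subgroupOf K).Normal)
      · exact (inferInstance : (⊤ : Subgroup ↥K).Normal)
    · intro i
      fin_cases i
      · left
        simpa [Subgroup.relIndex_bot_left, SZ.card_subgroupOf hHK] using hHc
      · right
        show IsPiNumber πᶜ ((H.subgroupOf K).relIndex (A.subgroupOf K))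
        refine hHi.of_dvd ?_
        rw [← Subgroup.inf_subgroupOf_right A K, Subgroup.relIndex_subgroupOf inf_le_right]
        exact Dvd.intro _ (Subgroup.relIndex_mul_relIndex H (A ⊓ K) A
          (le_inf hHA hHK) inf_le_left)
      · left
        show IsPiNumber π ((A.subgroupOf K).relIndex ⊤)
        rw [Subgroup.relIndex_top_right]
        refine hX.of_dvd ?_
        show A.relIndex K ∣ A.relIndex X
        haveI : (A.subgroupOf X).Normal := Subgroup.Normal.subgroupOf inferInstance X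
        rw [← Subgroup.relIndex_subgroupOf (inf_le_right : K ≤ X)]
        exact Subgroup.relIndex_dvd_index_of_normal _ _
  have hidx : ∀ X : Subgroup G, A ≤ X → N.relIndex X = N.relIndex A := by
    intro X hAX
    have hsup : (N ⊓ X) ⊔ A = X := by
      refine le_antisymm (sup_le inf_le_right hAX) fun x hx => ?_
      obtain ⟨a, ha, han⟩ := hfrat x
      have h1 : a * x ∈ N ⊓ X := ⟨han, X.mul_mem (hAX ha) hx⟩
      have h2 : x = a⁻¹ * (a * x) := by group
      rw [h2]
      exact Subgroup.mul_mem _ (Subgroup.mem_sup_right (A.inv_mem ha)) (Subgroup.mem_sup_left h1)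
    calc N.relIndex X = (N ⊓ X).relIndex X := (Subgroup.inf_relIndex_right N X).symm
      _ = (N ⊓ X).relIndex ((N ⊓ X) ⊔ A) := by rw [hsup]
      _ = (N ⊓ X).relIndex A := relIndex_sup_eq _ _
      _ = N.relIndex A := by
        rw [← Subgroup.inf_relIndex_right (N ⊓ X) A, inf_assoc, inf_eq_right.2 hAX,
          Subgroup.inf_relIndex_right]
  refine ⟨?_, ?_⟩
  · set X := Y0.comap q with hXdef
    have hAX : A ≤ X := QuotientGroup.le_comap_mk' A Y0
    obtain ⟨hYc, hYi⟩ := (Hall.isPiHall_iff Y0).1 hY0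
    have hrel : A.relIndex X = Nat.card Y0 := by
      have h := Subgroup.relIndex_ker q (K := X)
      rw [QuotientGroup.ker_mk', hXdef, Subgroup.map_comap_eq_self_of_surjective hqs] at h
      exact h
    obtain ⟨L, hL⟩ := (hK X hAX (hrel ▸ hYc)).1
    obtain ⟨hLc, hLi⟩ := (Hall.isPiHall_iff L).1 hL
    refine ⟨L.map (N ⊓ X).subtype, (Hall.isPiHall_iff _).2 ⟨?_, ?_⟩⟩
    · rwa [Subgroup.card_map_of_injective (N ⊓ X).subtype_injective]
    · rw [Subgroup.index_map_subtype]
      refine hLi.mul ?_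
      rw [← Subgroup.relIndex_mul_index (inf_le_right : N ⊓ X ≤ X)]
      refine IsPiNumber.mul ?_ ?_
      · rw [Subgroup.inf_relIndex_right, hidx X hAX]
        exact hHi.of_dvd (Subgroup.relIndex_dvd_of_le_left A Subgroup.le_normalizer)
      · rw [hXdef, Subgroup.index_comap_of_surjective Y0 hqs]
        exact hYi
  · intro H1 H2 h1 h2
    -- bring both into `N`
    have hin : ∀ L : Subgroup G, Cfsg.IsPiHall π L → ∃ g : G, MulAut.conj g • L ≤ N := by
      intro L hL
      have hLA : Cfsg.IsPiHallOf π (L ⊓ A) A :=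
        Hall.isPiHallOf_iff_isPiHall.2 ⟨inf_le_right, Hall.isPiHall_inf_subgroupOf hL A⟩
      obtain ⟨a, ha⟩ := hconjA _ hLA
      refine ⟨a, fun x hx => ?_⟩
      rw [hNdef, Subgroup.mem_normalizer_iff]
      have hn : ∀ x ∈ MulAut.conj (a : G) • L, ∀ y ∈ H, x * y * x⁻¹ ∈ H := by
        intro x hx y hy
        rw [← ha, Hall.conj_smul_eq_map] at hy ⊢
        rw [Hall.conj_smul_eq_map] at hx
        obtain ⟨u, hu, rfl⟩ := hx
        obtain ⟨v, ⟨hvL, hvA⟩, rfl⟩ := hy
        exact ⟨u * v * u⁻¹, ⟨L.mul_mem (L.mul_mem hu hvL) (L.inv_mem hu),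
          Subgroup.Normal.conj_mem inferInstance v hvA u⟩, by simp [mul_assoc]⟩
      intro y
      refine ⟨hn x hx y, fun hy => ?_⟩
      have := hn x⁻¹ ((MulAut.conj (a : G) • L).inv_mem hx) _ hy
      simpa [mul_assoc] using this
    obtain ⟨g1, hg1⟩ := hin H1 h1
    obtain ⟨g2, hg2⟩ := hin H2 h2
    have h1' := Hall.isPiHall_conj h1 g1
    have h2' := Hall.isPiHall_conj h2 g2
    obtain ⟨x, hx⟩ := hQc _ _ (Hall.isPiHall_map h1' hqs) (Hall.isPiHall_map h2' hqs)
    obtain ⟨y, rfl⟩ := hqs x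
    obtain ⟨a, ha, hay⟩ := hfrat y
    have hqa : q (a * y) = q y := by
      rw [map_mul]
      rw [show q a = 1 from (QuotientGroup.eq_one_iff a).2 ha, one_mul]
    rw [← Hall.conj_smul_eq_map, ← hqa, ← SZ.map_conj_smul] at hx
    set L1 := MulAut.conj (a * y) • (MulAut.conj g1 • H1)
    set L2 := MulAut.conj g2 • H2
    have hL1N : L1 ≤ N := SZ.conj_smul_le_of_mem_of_le hay hg1
    have hL1h : Cfsg.IsPiHall π L1 := Hall.isPiHall_conj h1' _
    set X := L2 ⊔ A
    have hAX : A ≤ X := le_sup_right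
    have hXpi : IsPiNumber π (A.relIndex X) := by
      show IsPiNumber π (A.relIndex (L2 ⊔ A))
      rw [Subgroup.relIndex_sup_right]
      exact IsPiNumber.of_dvd ((Hall.isPiHall_iff L2).1 h2').1
        (Subgroup.index_dvd_card (A.subgroupOf L2))
    have hL1X : L1 ≤ X := by
      intro z hz
      have hzq : q z ∈ L2.map q := hx.symm ▸ Subgroup.mem_map_of_mem q hz
      obtain ⟨w, hw, hwz⟩ := hzq
      have : w⁻¹ * z ∈ A := QuotientGroup.eq.1 hwz
      simpa using Subgroup.mul_mem_sup hw this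
    set K := N ⊓ X
    have hL1K : L1 ≤ K := le_inf hL1N hL1X
    have hL2K : L2 ≤ K := le_inf hg2 le_sup_left
    have hallK : ∀ L : Subgroup G, L ≤ K → Cfsg.IsPiHall π L → Cfsg.IsPiHall π (L.subgroupOf K) := by
      intro L hLK hL
      rw [Hall.isPiHall_iff] at hL ⊢
      rw [SZ.card_subgroupOf hLK]
      exact ⟨hL.1, hL.2.of_dvd (Subgroup.relIndex_dvd_index_of_le hLK)⟩
    obtain ⟨k, hk⟩ := (hK X hAX hXpi).2.1 _ _ (hallK L1 hL1K hL1h) (hallK L2 hL2K h2')
    have h := congrArg (Subgroup.map K.subtype) hk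
    rw [SZ.map_conj_smul, Subgroup.subgroupOf_map_subtype, Subgroup.subgroupOf_map_subtype,
      inf_eq_left.2 hL1K, inf_eq_left.2 hL2K] at h
    refine ⟨g2⁻¹ * (k * (a * y * g1)), ?_⟩
    rw [← Hall.conj_smul_eq_map]
    symm
    rw [← SZ.conj_smul_smul g2⁻¹, ← SZ.conj_smul_smul (k : G), ← SZ.conj_smul_smul (a * y) g1]
    exact SZ.conj_inv_smul_eq h.symm

end Cfsg.Agent.Lib.OddCond
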