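import Mathlib
import Cfsg.Prelude.Def_Perm
import Cfsg.Agent.Lib.OddCond.Basic
import Cfsg.Agent.Lib.Supersolvable.MinNormal
import Cfsg.Agent.S0735
import Cfsg.Agent.S3360

/-!
Kantor's theorem on 2-homogeneous groups that are not 2-transitive: such a group has odd order,
hence (odd order theorem, here a hypothesis) is solvable, and together with the scalar `-1` its
point stabiliser is a solvable transitive linear group, hence semilinear.
-/

set_option autoImplicit false
set_option linter.style.haveILetI false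

universe u

namespace Cfsg.Agent.Lib.OddCond

open Cfsg Pointwise

/-- A group automorphism of an abelian group of exponent `p` as a linear automorphism. -/
def kantorLin {N : Type u} [CommGroup N] (p : ℕ) [Module (ZMod p) (Additive N)] :
    MulAut N →* (Additive N ≃ₗ[ZMod p] Additive N) where
  toFun e :=
    { MulEquiv.toAdditive e with
      map_smul' := fun c x => ZMod.map_smul (MulEquiv.toAdditive e).toAddMonoidHom c x }
  map_one' := LinearEquiv.ext fun _ => rfl
  map_mul' _ _ := LinearEquiv.ext fun _ => rfl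

set_option maxHeartbeats 1600000 in
theorem kantor (hFT : OddSolvable.{u}) {α : Type u} [Fintype α] [DecidableEq α]
    (G : Subgroup (Equiv.Perm α)) (hne : G ≠ ⊥)
    (h2 : MulAction.IsPretransitive G (Set.powersetCard α 2))
    (hn2 : ¬ MulAction.IsMultiplyPretransitive G α 2) :
    Odd (Nat.card G) ∧ ∃ (p f : ℕ) (_ : Fact p.Prime), p ≠ 2 ∧ Fintype.card α = p ^ f ∧
      p ^ f % 4 = 3 ∧ ∃ e : α ≃ GaloisField p f,
        (∀ g : G, e.symm.trans (((g : Equiv.Perm α)).trans e) ∈
          Cfsg.semiaffineGroup (GaloisField p f)) ∧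
        ∀ b : GaloisField p f, ∃ g : G, ∀ x : α, e ((g : Equiv.Perm α) x) = e x + b := by
  classical
  have hα : 3 ≤ Fintype.card α := by
    by_contra h
    apply hn2
    haveI : Nontrivial α := by
      rw [← Fintype.one_lt_card_iff_nontrivial]
      by_contra h1
      haveI : Subsingleton α := Fintype.card_le_one_iff_subsingleton.1 (by omega)
      exact hne ((Subgroup.eq_bot_iff_forall _).2 fun g _ => Subsingleton.elim g 1)
    obtain ⟨s, hsG, hs1⟩ : ∃ s, s ∈ G ∧ s ≠ 1 := G.bot_or_exists_ne_one.resolve_left hne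
    rw [MulAction.is_two_pretransitive_iff]
    intro a b c d hab hcd
    have htwo : ∀ x y z : α, x ≠ y → z = x ∨ z = y := by
      intro x y z hxy
      by_contra hz
      push Not at hz
      have : ({x, y, z} : Finset α).card = 3 :=
        Finset.card_eq_three.2 ⟨x, y, z, hxy, Ne.symm hz.1, Ne.symm hz.2, rfl⟩
      have := Finset.card_le_univ ({x, y, z} : Finset α)
      omega
    have hsa : ∀ x : α, s x ≠ x := by
      intro x hx
      apply hs1
      refine Equiv.ext fun y => ?_
      obtain ⟨z, hz⟩ := exists_ne x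
      rcases htwo x z y hz.symm with rfl | rfl
      · simpa using hx
      · rcases htwo x y (s y) hz.symm with h' | h'
        · exact absurd (s.injective (h'.trans hx.symm)) hz
        · simpa using h'
    rcases htwo a b c hab with rfl | rfl
    · rcases htwo c b d hab with rfl | rfl
      · exact absurd rfl hcd
      · exact ⟨1, one_smul _ _, one_smul _ _⟩
    · rcases htwo a c d hab with rfl | rfl
      · refine ⟨⟨s, hsG⟩, ?_, ?_⟩
        · show s d = c
          exact (htwo d c (s d) hab).resolve_left (hsa d)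
        · show s c = d
          exact (htwo d c (s c) hab).resolve_right (hsa c)
      · exact absurd rfl hcd
  obtain ⟨heven, hprim⟩ := Cfsg.Agent.S0735.result G h2 hα
  have hprim := hprim hne
  have hodd : Odd (Nat.card G) := Nat.not_even_iff_odd.1 fun h => hn2 (heven h)
  refine ⟨hodd, ?_⟩
  haveI := hprim
  haveI : Group.IsSolvable G := hFT G hodd
  haveI : Nontrivial G := (Subgroup.nontrivial_iff_ne_bot G).2 hne
  obtain ⟨N, hNn, hNne, hNab, -, p, hp, -, hexp⟩ :=
    Supersolvable.exists_minimal_normal_solvable G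
  haveI := hNn
  haveI : Fact p.Prime := ⟨hp⟩
  letI : CommGroup N :=
    { (inferInstance : Group N) with mul_comm := fun a b => hNab.is_comm.comm a b }
  haveI : MulAction.IsQuasiPreprimitive G α := inferInstance
  have hfix : MulAction.fixedPoints N α ≠ Set.univ := by
    intro hall
    obtain ⟨n, hnN, hn1⟩ := N.bot_or_exists_ne_one.resolve_left hNne
    refine hn1 (Subtype.ext (Equiv.ext fun x => ?_))
    have hx : x ∈ MulAction.fixedPoints N α := by rw [hall]; trivial
    exact hx ⟨n, hnN⟩
  haveI hNt : MulAction.IsPretransitive N α :=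
    MulAction.IsQuasiPreprimitive.isPretransitive_of_normal hfix
  obtain ⟨o⟩ : Nonempty α := Fintype.card_pos_iff.1 (by omega)
  have hreg : ∀ n m : N, n • o = m • o → n = m := by
    intro n m h
    refine Subtype.ext (Subtype.ext (Equiv.ext fun x => ?_))
    obtain ⟨k, rfl⟩ := MulAction.exists_smul_eq N o x
    show n • (k • o) = m • (k • o)
    rw [← mul_smul, mul_comm, mul_smul, h, ← mul_smul, mul_comm, mul_smul]
  have hbij : Function.Bijective (fun n : N => n • o) :=
    ⟨fun n m h => hreg n m h, fun x => MulAction.exists_smul_eq N o x⟩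
  have hNcard : Nat.card N = Fintype.card α := by
    rw [Nat.card_eq_of_bijective _ hbij, Nat.card_eq_fintype_card]
  have hpg : IsPGroup p N := fun x => ⟨1, by
    rw [pow_one]; exact Subtype.ext (hexp x x.2)⟩
  obtain ⟨f, hf⟩ := IsPGroup.iff_card.1 hpg
  have hf0 : f ≠ 0 := by
    rintro rfl
    rw [pow_zero] at hf
    omega
  have hp2 : p ≠ 2 := by
    rintro rfl
    have h2d : 2 ∣ Nat.card G :=
      ((dvd_pow_self 2 hf0).trans hf.symm.dvd).trans (Subgroup.card_subgroup_dvd_card N)
    rcases hodd with ⟨k, hk⟩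
    omega
  have hn4 : Fintype.card α % 4 = 3 := by
    haveI := h2
    have hd : (Fintype.card α).choose 2 ∣ Nat.card G := by
      obtain ⟨P⟩ : Nonempty (Set.powersetCard α 2) := by
        obtain ⟨s, hs⟩ := Finset.exists_subset_card_eq (s := (Finset.univ : Finset α)) (n := 2)
          (by simp; omega)
        exact ⟨⟨s, hs.2⟩⟩
      have h1 := MulAction.index_stabilizer_of_transitive G P
      rw [Set.powersetCard.card, Nat.card_eq_fintype_card] at h1
      rw [← h1]
      exact Subgroup.index_dvd_card _
    have hno : Odd (Fintype.card α) := by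
      rw [← hNcard, hf]
      exact (hp.odd_of_ne_two hp2).pow
    have hoddc : Odd ((Fintype.card α).choose 2) := hodd.of_dvd_nat hd
    obtain ⟨j, hj⟩ := hno
    rw [Nat.choose_two_right, hj] at hoddc
    rcases Nat.even_or_odd j with ⟨i, rfl⟩ | ⟨i, rfl⟩
    · exfalso
      have : (2 * (i + i) + 1) * (2 * (i + i) + 1 - 1) / 2 = 2 * ((2 * (i + i) + 1) * i) := by
        rw [Nat.add_sub_cancel,
          show (2 * (i + i) + 1) * (2 * (i + i)) = 2 * ((2 * (i + i) + 1) * i) * 2 by ring,
          Nat.mul_div_cancel _ (by norm_num)]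
      rw [this] at hoddc
      exact Nat.not_even_iff_odd.2 hoddc (even_two_mul _)
    · omega
  -- the linear group
  letI : Module (ZMod p) (Additive N) :=
    AddCommGroup.zmodModule (n := p) fun x => Subtype.ext (hexp (Additive.toMul x).1 (Additive.toMul x).2)
  haveI : Finite (Additive N) := inferInstanceAs (Finite N)
  haveI : Nontrivial N := (Subgroup.nontrivial_iff_ne_bot N).2 hNne
  haveI : Nontrivial (Additive N) := inferInstanceAs (Nontrivial N)
  let H : Subgroup G := MulAction.stabilizer G o
  let φ : H × ℤˣ →* MulAut N :=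
    { toFun := fun k =>
        { toFun := fun n => (MulAut.conjNormal (k.1 : G) n) ^ ((k.2 : ℤˣ) : ℤ)
          invFun := fun n => (MulAut.conjNormal (k.1 : G)).symm (n ^ ((k.2 : ℤˣ) : ℤ))
          left_inv := fun n => by
            show (MulAut.conjNormal (k.1 : G)).symm
              (((MulAut.conjNormal (k.1 : G) n) ^ (k.2 : ℤ)) ^ (k.2 : ℤ)) = n
            rw [← zpow_mul, ← Units.val_mul, Int.units_mul_self, Units.val_one, zpow_one,
              MulEquiv.symm_apply_apply]
          right_inv := fun n => by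
            show (MulAut.conjNormal (k.1 : G)
              ((MulAut.conjNormal (k.1 : G)).symm (n ^ (k.2 : ℤ)))) ^ (k.2 : ℤ) = n
            rw [MulEquiv.apply_symm_apply, ← zpow_mul, ← Units.val_mul, Int.units_mul_self,
              Units.val_one, zpow_one]
          map_mul' := fun n m => by
            show (MulAut.conjNormal (k.1 : G) (n * m)) ^ (k.2 : ℤ) = _
            rw [map_mul, mul_zpow] }
      map_one' := MulEquiv.ext fun n => by
        show (MulAut.conjNormal ((1 : H) : G) n) ^ ((1 : ℤˣ) : ℤ) = n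
        simp
      map_mul' := fun k l => MulEquiv.ext fun n => by
        show (MulAut.conjNormal ((k.1 * l.1 : H) : G) n) ^ ((k.2 * l.2 : ℤˣ) : ℤ) =
          (MulAut.conjNormal (k.1 : G) ((MulAut.conjNormal (l.1 : G) n) ^ (l.2 : ℤ))) ^ (k.2 : ℤ)
        rw [Subgroup.coe_mul, map_mul, map_zpow, ← zpow_mul, Units.val_mul, mul_comm (k.2 : ℤ)]
        rfl }
  have hφ : ∀ (k : H × ℤˣ) (n : N), φ k n = (MulAut.conjNormal (k.1 : G) n) ^ (k.2 : ℤ) :=
    fun _ _ => rfl
  have hmove : ∀ (h : H) (n : N), (MulAut.conjNormal (h : G) n) • o = (h : G) • (n • o) := by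
    intro h n
    show ((MulAut.conjNormal (h : G) n : N) : G) • o = (h : G) • ((n : G) • o)
    rw [MulAut.conjNormal_apply, mul_smul, mul_smul]
    congr 2
    exact inv_smul_eq_iff.2 h.2.symm
  let ρ : H × ℤˣ →* (Additive N ≃ₗ[ZMod p] Additive N) := (kantorLin p).comp φ
  have hρapp : ∀ (k : H × ℤˣ) (v : Additive N),
      ρ k v = Additive.ofMul (φ k (Additive.toMul v)) := fun _ _ => rfl
  have hodd2 : ∀ g : G, g * g = 1 → g = 1 := by
    intro g hg
    have h1 : orderOf g ∣ 2 := orderOf_dvd_of_pow_eq_one (by rw [pow_two, hg])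
    have h2' : Odd (orderOf g) := hodd.of_dvd_nat (orderOf_dvd_natCard g)
    rcases (Nat.dvd_prime Nat.prime_two).1 h1 with h | h
    · exact orderOf_eq_one_iff.1 h
    · rw [h] at h2'
      exact absurd h2' (by decide)
  have hfaith : ∀ h : H, (∀ n : N, MulAut.conjNormal (h : G) n = n) → h = 1 := by
    intro h hh
    refine Subtype.ext (Subtype.ext (Equiv.ext fun x => ?_))
    obtain ⟨n, rfl⟩ := MulAction.exists_smul_eq N o x
    show (h : G) • (n • o) = n • o
    rw [← hmove, hh]
  have hρinj : Function.Injective ρ := by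
    rw [injective_iff_map_eq_one]
    rintro ⟨h, ε⟩ hk
    have hk' : ∀ n : N, (MulAut.conjNormal (h : G) n) ^ (ε : ℤ) = n := fun n =>
      Additive.ofMul.injective (by
        rw [← hφ ⟨h, ε⟩, ← Additive.toMul.apply_symm_apply n]
        exact (hρapp ⟨h, ε⟩ _).symm.trans (by rw [hk]; rfl))
    have hh2 : ∀ n : N, MulAut.conjNormal ((h * h : H) : G) n = n := by
      intro n
      have h3 := hk' ((MulAut.conjNormal (h : G) n) ^ (ε : ℤ))
      rw [map_zpow, ← zpow_mul, ← Units.val_mul, Int.units_mul_self, Units.val_one, zpow_one,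
        hk'] at h3
      rw [Subgroup.coe_mul, map_mul]
      exact h3
    have hh : h = 1 := Subtype.ext (hodd2 _ (congrArg Subtype.val (hfaith (h * h) hh2)))
    subst hh
    rcases Int.units_eq_one_or ε with rfl | rfl
    · rfl
    exfalso
    obtain ⟨n, hn⟩ := exists_ne (1 : N)
    have h1 := hk' n
    simp only [OneMemClass.coe_one, map_one, MulAut.one_apply, Units.val_neg, Units.val_one,
      zpow_neg, zpow_one] at h1
    refine hn (Subtype.ext (hodd2 (n : G) ?_))
    have h2' : n * n = 1 := by
      calc n * n = n⁻¹ * n := by rw [h1]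
        _ = 1 := inv_mul_cancel n
    exact congrArg Subtype.val h2'
  have htrans : ∀ v w : Additive N, v ≠ 0 → w ≠ 0 → ∃ k : H × ℤˣ, ρ k v = w := by
    intro v w hv hw
    set a : N := Additive.toMul v
    set b : N := Additive.toMul w
    have ha : o ≠ a • o := fun h => hv (hreg a 1 (by rw [one_smul]; exact h.symm))
    have hb : o ≠ b • o := fun h => hw (hreg b 1 (by rw [one_smul]; exact h.symm))
    obtain ⟨g, hg⟩ := h2.exists_smul_eq ⟨{o, a • o}, Finset.card_pair ha⟩
      ⟨{o, b • o}, Finset.card_pair hb⟩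
    have hg' : g • ({o, a • o} : Finset α) = {o, b • o} := congrArg Subtype.val hg
    have h1 : g • o ∈ ({o, b • o} : Finset α) :=
      hg' ▸ Finset.smul_mem_smul_finset (by simp)
    have h2' : g • (a • o) ∈ ({o, b • o} : Finset α) :=
      hg' ▸ Finset.smul_mem_smul_finset (by simp)
    have hne' : g • o ≠ g • (a • o) := fun h => ha (smul_left_cancel g h)
    simp only [Finset.mem_insert, Finset.mem_singleton] at h1 h2'
    rcases h1 with h1 | h1
    · have h3 : g • (a • o) = b • o := h2'.resolve_left fun h => hne' (h1.trans h.symm)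
      refine ⟨(⟨g, h1⟩, 1), ?_⟩
      rw [hρapp, hφ, Units.val_one, zpow_one]
      exact congrArg Additive.ofMul (hreg _ _ ((hmove ⟨g, h1⟩ a).trans h3))
    · have h3 : g • (a • o) = o := h2'.resolve_right fun h => hne' (h1.trans h.symm)
      have h4 : ((b : G)⁻¹ * g) • o = o := by
        rw [mul_smul, h1]
        exact inv_smul_smul (b : G) o
      refine ⟨(⟨(b : G)⁻¹ * g, h4⟩, -1), ?_⟩
      rw [hρapp, hφ, Units.val_neg, Units.val_one, zpow_neg_one]
      refine congrArg Additive.ofMul (inv_eq_iff_eq_inv.2 (hreg _ _ ?_))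
      rw [hmove ⟨_, h4⟩ a]
      show ((b : G)⁻¹ * g) • (a • o) = b⁻¹ • o
      rw [mul_smul, h3]
      rfl
  haveI : Group.IsSolvable H := inferInstance
  have hsol : Group.IsSolvable (H × ℤˣ) := inferInstance
  rcases Cfsg.Agent.S3360.result p hsol ρ hρinj htrans with ⟨F, iF, iFt, e, he⟩ | hexc
  swap
  · exfalso
    rw [show Nat.card (Additive N) = Nat.card N from rfl, hNcard] at hexc
    simp only [Set.mem_insert_iff, Set.mem_singleton_iff] at hexc
    omega
  have hcF : Nat.card F = p ^ f := by
    rw [← Nat.card_congr e.toEquiv]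
    exact hf
  refine ⟨p, f, ⟨hp⟩, hp2, by rw [← hNcard, hf], by rw [← hf, hNcard]; exact hn4, ?_⟩
  letI : Fintype (GaloisField p f) := Fintype.ofFinite _
  let r : F ≃+* GaloisField p f := FiniteField.ringEquivOfCardEq (by
    rw [← Nat.card_eq_fintype_card, ← Nat.card_eq_fintype_card, hcF, GaloisField.card p f hf0])
  let ν : N ≃ α := Equiv.ofBijective _ hbij
  let E : α ≃ GaloisField p f := ν.symm.trans (Additive.ofMul.trans (e.toEquiv.trans r.toEquiv))
  have hE : ∀ n : N, E (n • o) = r (e (Additive.ofMul n)) := by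
    intro n
    show r (e (Additive.ofMul (ν.symm (ν n)))) = _
    rw [Equiv.symm_apply_apply]
  refine ⟨E, fun g => ?_, fun b => ?_⟩
  · obtain ⟨n, hn⟩ := MulAction.exists_smul_eq N o (g • o)
    have hh : ((n : G)⁻¹ * g) • o = o := by
      rw [mul_smul, ← hn]
      exact inv_smul_smul (n : G) o
    set h : H := ⟨(n : G)⁻¹ * g, hh⟩
    obtain ⟨a, σ, ha⟩ := he (h, 1)
    have ha0 : a ≠ 0 := by
      rintro rfl
      obtain ⟨v, hv⟩ := exists_ne (0 : Additive N)
      have := ha v
      rw [zero_mul, AddEquiv.map_eq_zero_iff, LinearEquiv.map_eq_zero_iff] at this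
      exact hv this
    refine ⟨Units.mk0 (r a) (by rwa [ne_eq, r.map_eq_zero_iff]), r (e (Additive.ofMul n)),
      r.symm.trans (σ.trans r), fun x => ?_⟩
    obtain ⟨y, rfl⟩ := E.surjective x
    obtain ⟨m, rfl⟩ := MulAction.exists_smul_eq N o y
    show E ((g : Equiv.Perm α) (E.symm (E (m • o)))) = _
    rw [Equiv.symm_apply_apply, hE, Units.val_mk0]
    have h5 : (g : Equiv.Perm α) (m • o) = (n * MulAut.conjNormal (h : G) m) • o := by
      rw [mul_smul, hmove]
      show g • (m • o) = (n : G) • (((n : G)⁻¹ * g) • (m • o))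
      rw [← mul_smul (n : G), mul_inv_cancel_left]
    rw [h5, hE, ofMul_mul, map_add, map_add]
    have h6 := ha (Additive.ofMul m)
    rw [hρapp, hφ] at h6
    simp only [Units.val_one, zpow_one, toMul_ofMul] at h6
    rw [h6, map_mul]
    rw [add_comm]
    simp only [RingEquiv.trans_apply, RingEquiv.symm_apply_apply]
  · obtain ⟨m, hm⟩ := Additive.ofMul.surjective (e.symm (r.symm b))
    refine ⟨(m : G), fun x => ?_⟩
    obtain ⟨k, rfl⟩ := MulAction.exists_smul_eq N o x
    show E ((m : N) • (k • o)) = _
    rw [← mul_smul, hE, hE, ofMul_mul, map_add, map_add, hm, AddEquiv.apply_symm_apply,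
      RingEquiv.apply_symm_apply, add_comm]

end Cfsg.Agent.Lib.OddCond
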