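import Mathlib
import Cfsg.Prelude.Def_Local
import Cfsg.Agent.Lib.OddCond.Basic
import Cfsg.Agent.Lib.Components.Basic

/-!
Groups in which cyclic p-subgroups of equal order are conjugate have at most one component,
given the odd order theorem.
-/

set_option autoImplicit false

universe u

namespace Cfsg.Agent.Lib.OddCond

variable {G : Type u} [Group G] [Finite G]

theorem exists_two_element (hFT : OddSolvable.{u}) {L : Subgroup G} (hL : Cfsg.IsComponent L) :
    ∃ b : ℕ, ∃ y ∈ L, orderOf y = 2 ^ b ∧ y ∉ Subgroup.centralizer (L : Set G) ∧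
      ∀ y' ∈ L, ∀ b' < b, orderOf y' = 2 ^ b' → y' ∈ Subgroup.centralizer (L : Set G) := by
  classical
  have hex : ∃ b : ℕ, ∃ y ∈ L, orderOf y = 2 ^ b ∧ y ∉ Subgroup.centralizer (L : Set G) := by
    by_contra hne
    push Not at hne
    refine Components.quasisimple_not_isSolvable hL.2 ?_
    haveI : Fact (Nat.Prime 2) := ⟨Nat.prime_two⟩
    obtain ⟨S⟩ : Nonempty (Sylow 2 L) := inferInstance
    have hS : (S : Subgroup L) ≤ Subgroup.center L := by
      intro s hs
      obtain ⟨k, hk⟩ := IsPGroup.iff_orderOf.1 S.2 ⟨s, hs⟩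
      rw [Subgroup.orderOf_mk] at hk
      rw [Subgroup.mem_center_iff]
      intro t
      exact Subtype.ext (Subgroup.mem_centralizer_iff.1
        (hne k (s : G) s.2 (by rw [Subgroup.orderOf_coe]; exact hk)) t t.2)
    have hodd : Odd (Nat.card (L ⧸ Subgroup.center L)) := by
      rw [← Nat.not_even_iff_odd, even_iff_two_dvd]
      exact fun h => S.not_dvd_index (h.trans (Subgroup.index_dvd_of_le hS))
    haveI := hFT _ hodd
    exact (Group.isSolvable_iff_subgroup_quotient (Subgroup.center L)).2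
      ⟨Group.isSolvable_of_comm fun a b => Subtype.ext (Subgroup.mem_center_iff.1 b.2 a),
        inferInstance⟩
  obtain ⟨y, hy, ho, hc⟩ := Nat.find_spec hex
  refine ⟨Nat.find hex, y, hy, ho, hc, fun y' hy' b' hb' ho' => ?_⟩
  by_contra hne
  exact Nat.find_min hex hb' ⟨y', hy', ho', hne⟩

theorem component_unique (hFT : OddSolvable.{u})
    (hP : ∀ (p : ℕ), p.Prime → ∀ A B : Subgroup G, IsCyclic ↥A → IsCyclic ↥B → IsPGroup p ↥A →
      Nat.card ↥A = Nat.card ↥B → ∃ g : G, B = A.map (MulAut.conj g).toMonoidHom)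
    {L₁ L₂ : Subgroup G} (h₁ : Cfsg.IsComponent L₁) (h₂ : Cfsg.IsComponent L₂) : L₁ = L₂ := by
  by_contra hne
  obtain ⟨a, x, hx, hxo, hxc, hxm⟩ := exists_two_element hFT h₁
  obtain ⟨b, y, hy, hyo, hyc, hym⟩ := exists_two_element hFT h₂
  wlog hab : a ≤ b generalizing L₁ L₂ a b x y
  · exact this h₂ h₁ (Ne.symm hne) b y hy hyo hyc hym a x hx hxo hxc hxm (by omega)
  have hcL : ∀ L L' : Subgroup G, Cfsg.IsComponent L → Cfsg.IsComponent L' → L ≠ L' →
      ∀ z ∈ L, z ∈ Subgroup.centralizer (L' : Set G) :=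
    fun L L' hL hL' hn z hz => Components.isComponent_le_centralizer hL hL' hn hz
  have hxy : Commute x y :=
    (Subgroup.mem_centralizer_iff.1 (hcL L₁ L₂ h₁ h₂ hne x hx) y hy).symm
  have hu1 : x * y ∉ Subgroup.centralizer (L₁ : Set G) := fun h => hxc
    (((Subgroup.centralizer (L₁ : Set G)).mul_mem_cancel_right
      (hcL L₂ L₁ h₂ h₁ (Ne.symm hne) y hy)).1 h)
  have hu2 : x * y ∉ Subgroup.centralizer (L₂ : Set G) := fun h => hyc
    (((Subgroup.centralizer (L₂ : Set G)).mul_mem_cancel_left (hcL L₁ L₂ h₁ h₂ hne x hx)).1 h)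
  have hdvd : orderOf (x * y) ∣ 2 ^ b := hxy.orderOf_mul_dvd_lcm.trans
    (Nat.lcm_dvd (hxo ▸ pow_dvd_pow 2 hab) (hyo ▸ dvd_rfl))
  obtain ⟨c, hcb, hc⟩ := (Nat.dvd_prime_pow Nat.prime_two).1 hdvd
  -- an element of the same order centralizing all components but one
  obtain ⟨w, hwo, hw⟩ : ∃ w : G, orderOf w = 2 ^ c ∧
      ∀ L : Subgroup G, Cfsg.IsComponent L → L ≠ L₂ → w ∈ Subgroup.centralizer (L : Set G) := by
    refine ⟨y ^ 2 ^ (b - c), ?_, fun L hL hn => Subgroup.pow_mem _ (hcL L₂ L h₂ hL (Ne.symm hn) y hy) _⟩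
    rw [orderOf_pow' _ (pow_ne_zero _ two_ne_zero), hyo,
      Nat.gcd_eq_right (pow_dvd_pow 2 (by omega)),
      Nat.pow_div (by omega) two_pos, show b - (b - c) = c by omega]
  have hA : IsPGroup 2 (Subgroup.zpowers w) :=
    IsPGroup.of_card (n := c) (by rw [Nat.card_zpowers, hwo])
  obtain ⟨g, hg⟩ := hP 2 Nat.prime_two (Subgroup.zpowers w) (Subgroup.zpowers (x * y))
    inferInstance inferInstance hA (by rw [Nat.card_zpowers, Nat.card_zpowers, hwo, hc])
  set f := (MulAut.conj g).toMonoidHom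
  have key : ∀ L : Subgroup G, Cfsg.IsComponent L → L ≠ L₂.map f →
      x * y ∈ Subgroup.centralizer (L : Set G) := by
    intro L hL hn
    set L' := L.map (MulAut.conj g⁻¹).toMonoidHom with hL'def
    have hL' : Cfsg.IsComponent L' := Components.isComponent_conj hL g⁻¹
    have hback : L'.map f = L := by
      rw [hL'def, Subgroup.map_map]
      convert Subgroup.map_id L using 2
      ext z
      simp [f, mul_assoc]
    have hn' : L' ≠ L₂ := fun h => hn (by rw [← hback, h])
    have hle : Subgroup.zpowers w ≤ Subgroup.centralizer (L' : Set G) :=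
      Subgroup.zpowers_le.2 (hw L' hL' hn')
    obtain ⟨v, hv, hvx⟩ : x * y ∈ (Subgroup.zpowers w).map f := hg ▸ Subgroup.mem_zpowers _
    rw [Subgroup.mem_centralizer_iff]
    intro z hz
    rw [← hback] at hz
    obtain ⟨z', hz', rfl⟩ := hz
    rw [← hvx, ← map_mul, ← map_mul, Subgroup.mem_centralizer_iff.1 (hle hv) z' hz']
  by_cases h : L₁ = L₂.map f
  · exact hu2 (key L₂ h₂ (fun h' => hne (h.trans h'.symm)))
  · exact hu1 (key L₁ h₁ h)

theorem layer_quotient_center (hFT : OddSolvable.{u})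
    (hP : ∀ (p : ℕ), p.Prime → ∀ A B : Subgroup G, IsCyclic ↥A → IsCyclic ↥B → IsPGroup p ↥A →
      Nat.card ↥A = Nat.card ↥B → ∃ g : G, B = A.map (MulAut.conj g).toMonoidHom)
    (hE : Cfsg.layer G ≠ ⊥) :
    IsSimpleGroup (↥(Cfsg.layer G) ⧸ Subgroup.center ↥(Cfsg.layer G)) ∧
      ¬ IsMulCommutative (↥(Cfsg.layer G) ⧸ Subgroup.center ↥(Cfsg.layer G)) := by
  obtain ⟨L, hL⟩ : ∃ L : Subgroup G, Cfsg.IsComponent L := by
    by_contra h
    push Not at h
    exact hE (eq_bot_iff.2 (Components.layer_le_iff.2 fun L hL => absurd hL (h L)))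
  have he : Cfsg.layer G = L := le_antisymm
    (Components.layer_le_iff.2 fun K hK => (component_unique hFT hP hK hL).le)
    (Components.isComponent_le_layer hL)
  rw [he]
  exact ⟨hL.2.2, Components.quasisimple_quotient_center_not_isMulCommutative hL.2⟩

end Cfsg.Agent.Lib.OddCond
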