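import Mathlib
import Cfsg.Agent.Lib.OddCond.Basic
import Cfsg.Agent.Lib.Fusion.GroupFusion
import Cfsg.Agent.Lib.Transfer.Criteria
import Cfsg.Agent.S5212
import Cfsg.Agent.S0949

/-!
A finite group whose Sylow 2-subgroup has a cyclic normal subgroup with cyclic quotient of order
greater than two is solvable, given the odd order theorem.
-/

set_option autoImplicit false

universe u

namespace Cfsg.Agent.Lib.OddCond

open Cfsg
open scoped commutatorElement

theorem card_cyclic_quotient_le_two {S : Type*} [Group S] (N : Subgroup S) [N.Normal]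
    (hQc : IsCyclic (S ⧸ N)) (h : ∀ g : S, g * g ∈ commutator S) : Nat.card (S ⧸ N) ≤ 2 := by
  haveI := hQc
  obtain ⟨q, hq⟩ := IsCyclic.exists_zpow_surjective (G := S ⧸ N)
  have hcomm : commutator S ≤ N := by
    rw [commutator_def, Subgroup.commutator_le]
    intro a _ b _
    rw [← QuotientGroup.eq_one_iff, commutatorElement_def]
    obtain ⟨i, hi⟩ := hq (QuotientGroup.mk a)
    obtain ⟨j, hj⟩ := hq (QuotientGroup.mk b)
    simp only [QuotientGroup.mk_mul, QuotientGroup.mk_inv, ← hi, ← hj]
    group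
  have hsq : q * q = 1 := by
    obtain ⟨g, rfl⟩ := QuotientGroup.mk_surjective q
    rw [← QuotientGroup.mk_mul, QuotientGroup.eq_one_iff]
    exact hcomm (h g)
  have : orderOf q = Nat.card (S ⧸ N) :=
    orderOf_eq_card_of_forall_mem_zpowers fun x => Subgroup.mem_zpowers_iff.2 (hq x)
  rw [← this]
  exact orderOf_le_of_pow_eq_one (by norm_num) (by rw [pow_two, hsq])

theorem mul_self_mem_commutator_of_equiv {S T : Type*} [Group S] [Group T] (e : S ≃* T)
    (h : ∀ g : T, g * g ∈ commutator T) (g : S) : g * g ∈ commutator S := by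
  have h1 := Subgroup.mem_map_of_mem e.symm.toMonoidHom (h (e g))
  rw [commutator_def, Subgroup.map_commutator] at h1
  have h2 : e.symm.toMonoidHom (e g * e g) ∈ commutator S :=
    Subgroup.commutator_mono le_top le_top h1
  simpa using h2

theorem dihedral_mul_self_mem_commutator (m : ℕ) (g : DihedralGroup m) :
    g * g ∈ commutator (DihedralGroup m) := by
  cases g with
  | r i =>
    have : DihedralGroup.r i * DihedralGroup.r i =
        ⁅DihedralGroup.r i, DihedralGroup.sr (0 : ZMod m)⁆ := by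
      simp [commutatorElement_def]
    rw [this, commutator_def]
    exact Subgroup.commutator_mem_commutator (Subgroup.mem_top _) (Subgroup.mem_top _)
  | sr i => simp

theorem quaternion_mul_self_mem_commutator (m : ℕ) (hm : 2 ∣ m) (g : QuaternionGroup m) :
    g * g ∈ commutator (QuaternionGroup m) := by
  have key : ∀ i : ZMod (2 * m), QuaternionGroup.a (i + i) ∈ commutator (QuaternionGroup m) := by
    intro i
    have : (QuaternionGroup.a (i + i) : QuaternionGroup m) =
        ⁅QuaternionGroup.a i, QuaternionGroup.xa (0 : ZMod (2 * m))⁆ := by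
      have h0 : ((m : ℕ) : ZMod (2 * m)) + (m : ℕ) = 0 := by
        rw [← Nat.cast_add, ← two_mul, ZMod.natCast_self]
      have ha : (QuaternionGroup.a i : QuaternionGroup m)⁻¹ = QuaternionGroup.a (-i) :=
        inv_eq_of_mul_eq_one_right (by rw [QuaternionGroup.a_mul_a, add_neg_cancel]; rfl)
      have hx : (QuaternionGroup.xa (0 : ZMod (2 * m)) : QuaternionGroup m)⁻¹ =
          QuaternionGroup.xa ((m : ℕ) : ZMod (2 * m)) :=
        inv_eq_of_mul_eq_one_right (by rw [QuaternionGroup.xa_mul_xa, sub_zero, h0]; rfl)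
      rw [commutatorElement_def, ha, hx, QuaternionGroup.a_mul_xa, QuaternionGroup.xa_mul_a,
        QuaternionGroup.xa_mul_xa]
      congr 1
      linear_combination (-1 : ZMod (2 * m)) * h0
    rw [this, commutator_def]
    exact Subgroup.commutator_mem_commutator (Subgroup.mem_top _) (Subgroup.mem_top _)
  cases g with
  | a i =>
    rw [QuaternionGroup.a_mul_a]
    exact key i
  | xa i =>
    obtain ⟨k, rfl⟩ := hm
    rw [QuaternionGroup.xa_mul_xa]
    convert key (k : ZMod (2 * (2 * k))) using 2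
    push_cast
    ring

variable {G : Type u} [Group G] [Finite G]

theorem quasiDihedral_mul_self_mem_commutator {S : Type*} [Group S] [Finite S]
    (hS : IsQuasiDihedral S) (g : S) : g * g ∈ commutator S := by
  obtain ⟨n, hn, hcard, x, y, hx, hy, hxy⟩ := hS
  have hc : ⁅y, x⁆ ∈ commutator S := by
    rw [commutator_def]
    exact Subgroup.commutator_mem_commutator (Subgroup.mem_top _) (Subgroup.mem_top _)
  have hcom : ⁅y, x⁆ = x ^ (2 ^ (n - 1) - 1) * x⁻¹ := by
    rw [commutatorElement_def, hxy]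
  set C := commutator S
  set z := (QuotientGroup.mk x : S ⧸ C)
  have hz : z ^ (2 ^ (n - 1) - 2) = 1 := by
    have h1 : 2 ≤ 2 ^ (n - 1) := Nat.le_self_pow (by omega) 2
    rw [← QuotientGroup.mk_pow, QuotientGroup.eq_one_iff]
    have : x ^ (2 ^ (n - 1) - 2) = ⁅y, x⁆ * x ^ 0 := by
      rw [hcom, pow_zero, mul_one, eq_mul_inv_iff_mul_eq, ← pow_succ]
      congr 1
      omega
    rw [this, pow_zero, mul_one]
    exact hc
  have hzn : z ^ 2 ^ n = 1 := by
    rw [← QuotientGroup.mk_pow, ← hx, pow_orderOf_eq_one, QuotientGroup.mk_one]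
  have hz2 : z * z = 1 := by
    have h2 : z ^ Nat.gcd (2 ^ (n - 1) - 2) (2 ^ n) = 1 := pow_gcd_eq_one.mpr ⟨hz, hzn⟩
    have hgcd : Nat.gcd (2 ^ (n - 1) - 2) (2 ^ n) ∣ 2 := by
      obtain ⟨k, rfl⟩ : ∃ k, n = k + 3 := ⟨n - 3, by omega⟩
      simp only [Nat.add_succ_sub_one]
      have e1 : (2 : ℕ) ^ (k + 2) - 2 = 2 * (2 ^ (k + 1) - 1) := by
        rw [pow_succ', Nat.mul_sub_one]
      have e2 : (2 : ℕ) ^ (k + 3) = 2 * 2 ^ (k + 2) := by ring
      rw [e1, e2, Nat.gcd_mul_left]
      have hco : Nat.gcd (2 ^ (k + 1) - 1) (2 ^ (k + 2)) = 1 := by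
        refine Nat.Coprime.pow_right _ (Nat.coprime_two_right.mpr ?_)
        exact Nat.Even.sub_odd (Nat.one_le_two_pow) (by simp [Nat.even_pow]) odd_one
      rw [hco]
    obtain ⟨c, hc2⟩ := hgcd
    rw [← pow_two, hc2, pow_mul, h2, one_pow]
  have htop : Subgroup.closure {x, y} = ⊤ := by
    refine Subgroup.eq_top_of_le_card _ ?_
    have hxle : Subgroup.zpowers x ≤ Subgroup.closure {x, y} :=
      Subgroup.zpowers_le.2 (Subgroup.subset_closure (by simp))
    have hcx : Nat.card (Subgroup.zpowers x) = 2 ^ n := by rw [Nat.card_zpowers, hx]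
    have hlt : 2 ^ n < Nat.card (Subgroup.closure {x, y}) := by
      refine lt_of_le_of_ne (hcx ▸ Subgroup.card_le_of_le hxle) fun he => ?_
      have heq : Subgroup.zpowers x = Subgroup.closure {x, y} :=
        Subgroup.eq_of_le_of_card_ge hxle (by omega)
      have hymem : y ∈ Subgroup.zpowers x := heq ▸ Subgroup.subset_closure (by simp)
      obtain ⟨i, rfl⟩ := Subgroup.mem_zpowers_iff.1 hymem
      have : x ^ 1 = x ^ (2 ^ (n - 1) - 1) := by rw [← hxy, pow_one]; group
      rw [pow_eq_pow_iff_modEq, hx, Nat.ModEq] at this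
      have h1 : 2 ^ (n - 1) - 1 < 2 ^ n :=
        lt_of_le_of_lt (Nat.sub_le _ _) (Nat.pow_lt_pow_right (by norm_num) (by omega))
      have h2 : 1 < 2 ^ n := Nat.one_lt_two_pow (by omega)
      rw [Nat.mod_eq_of_lt h1, Nat.mod_eq_of_lt h2] at this
      have : 4 ≤ 2 ^ (n - 1) := by
        calc 4 = 2 ^ 2 := rfl
          _ ≤ _ := Nat.pow_le_pow_right (by norm_num) (by omega)
      omega
    have hdvd := Subgroup.card_subgroup_dvd_card (Subgroup.closure {x, y})
    rw [hcard] at hdvd ⊢
    obtain ⟨i, hi, hi'⟩ := (Nat.dvd_prime_pow Nat.prime_two).1 hdvd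
    rw [hi'] at hlt ⊢
    have := (Nat.pow_lt_pow_iff_right (by norm_num)).1 hlt
    exact Nat.pow_le_pow_right (by norm_num) (by omega)
  have hyy : (QuotientGroup.mk y : S ⧸ C) * QuotientGroup.mk y = 1 := by
    rw [← QuotientGroup.mk_mul, ← pow_two, ← hy, pow_orderOf_eq_one, QuotientGroup.mk_one]
  have hcommC : ∀ a b : S ⧸ C, a * b = b * a := by
    intro a b
    obtain ⟨a, rfl⟩ := QuotientGroup.mk_surjective a
    obtain ⟨b, rfl⟩ := QuotientGroup.mk_surjective b
    rw [← QuotientGroup.mk_mul, ← QuotientGroup.mk_mul, QuotientGroup.eq]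
    have : (a * b)⁻¹ * (b * a) = ⁅b⁻¹, a⁻¹⁆ := by rw [commutatorElement_def]; group
    rw [this]
    exact Subgroup.commutator_mem_commutator (Subgroup.mem_top _) (Subgroup.mem_top _)
  have hg : g ∈ Subgroup.closure {x, y} := htop ▸ Subgroup.mem_top g
  have : (QuotientGroup.mk g : S ⧸ C) * QuotientGroup.mk g = 1 := by
    induction hg using Subgroup.closure_induction with
    | mem w hw =>
      rcases hw with rfl | rfl
      exacts [hz2, hyy]
    | one => simp
    | mul a b _ _ ha hb =>
      rw [QuotientGroup.mk_mul, mul_assoc, ← mul_assoc (QuotientGroup.mk b : S ⧸ C),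
        hcommC (QuotientGroup.mk b), mul_assoc, hb, mul_one, ha]
    | inv a _ ha => rw [QuotientGroup.mk_inv, ← mul_inv_rev, ha, inv_one]
  rwa [← QuotientGroup.mk_mul, QuotientGroup.eq_one_iff] at this

theorem isSolvable_of_homocyclic (hFT : OddSolvable.{u}) (S : Sylow 2 G) (m : ℕ) (hm : 2 ≤ m)
    (e : (S : Subgroup G) ≃* Multiplicative (ZMod (2 ^ m) × ZMod (2 ^ m))) :
    Group.IsSolvable G := by
  haveI : Fact (Nat.Prime 2) := ⟨Nat.prime_two⟩
  set O := pPrimeCore 2 G with hO
  haveI := PSolvable.pPrimeCore_characteristic (p := 2) (G := G)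
  have hOodd : Odd (Nat.card O) :=
    Nat.odd_iff.2 (Nat.two_dvd_ne_zero.1 PSolvable.pPrimeCore_not_dvd)
  let f := QuotientGroup.mk' O
  have hf : Function.Surjective f := QuotientGroup.mk'_surjective O
  let P : Sylow 2 (G ⧸ O) := S.mapSurjective hf
  have hinj : Function.Injective (f.comp (S : Subgroup G).subtype) := by
    rw [injective_iff_map_eq_one]
    intro s hs
    have hsO : (s : G) ∈ O := (QuotientGroup.eq_one_iff _).1 hs
    have h1 : orderOf (s : G) ∣ Nat.card O := Subgroup.orderOf_dvd_natCard O hsO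
    obtain ⟨k, hk⟩ := IsPGroup.iff_orderOf.1 S.2 s
    rw [Subgroup.orderOf_coe, hk] at h1
    rcases k with _ | k
    · rw [pow_zero, orderOf_eq_one_iff] at hk
      exact hk
    · exact absurd ((dvd_pow_self 2 k.succ_ne_zero).trans h1)
        (fun h2 => Nat.not_even_iff_odd.2 hOodd (even_iff_two_dvd.2 h2))
  have eP : (S : Subgroup G) ≃* (P : Subgroup (G ⧸ O)) :=
    (Subgroup.equivMapOfInjective ⊤ _ hinj |> Subgroup.topEquiv.symm.trans).trans
      (MulEquiv.subgroupCongr (by
        rw [← MonoidHom.range_eq_map, MonoidHom.range_comp, Subgroup.range_subtype]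
        rfl))
  have hcore : ∀ N : Subgroup (G ⧸ O), N.Normal → Odd (Nat.card N) → N = ⊥ := by
    intro N hN hodd
    haveI := hN
    have hle : N.comap f ≤ O := by
      refine le_sSup ⟨inferInstance, ?_⟩
      rw [Nat.coprime_two_right, show Nat.card ↥(N.comap f) = Nat.card O * Nat.card N from
        QuotientGroup.card_preimage_mk O N]
      exact hOodd.mul hodd
    rw [← Subgroup.map_comap_eq_self_of_surjective hf N, eq_bot_iff, Subgroup.map_le_iff_le_comap]
    intro x hx
    exact (QuotientGroup.eq_one_iff x).2 (hle hx)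
  haveI := (Cfsg.Agent.S0949.result P m hm (eP.symm.trans e) hcore).1
  haveI : Group.IsSolvable ((G ⧸ O) ⧸ (P : Subgroup (G ⧸ O))) := hFT _ (by
    rw [← Subgroup.index_eq_card, ← Nat.not_even_iff_odd, even_iff_two_dvd]
    exact P.not_dvd_index)
  haveI : Group.IsSolvable (P : Subgroup (G ⧸ O)) := isPGroup_isSolvable P.2
  haveI : Group.IsSolvable O := hFT O hOodd
  haveI : Group.IsSolvable (G ⧸ O) :=
    (Group.isSolvable_iff_subgroup_quotient (P : Subgroup (G ⧸ O))).2 ⟨inferInstance, inferInstance⟩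
  exact (Group.isSolvable_iff_subgroup_quotient O).2 ⟨inferInstance, inferInstance⟩

theorem isSolvable_of_metacyclic_sylow (hFT : OddSolvable.{u}) (S : Sylow 2 G)
    (N : Subgroup (S : Subgroup G)) [N.Normal] (hNc : IsCyclic N)
    (hQc : IsCyclic ((S : Subgroup G) ⧸ N)) (hQ : 2 < Nat.card ((S : Subgroup G) ⧸ N)) :
    Group.IsSolvable G := by
  classical
  haveI : Fact (Nat.Prime 2) := ⟨Nat.prime_two⟩
  by_cases hcyc : IsCyclic (S : Subgroup G)
  · refine isSolvable_of_hasNormalPComplement_two hFT ?_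
    have h2 : 2 ∣ Nat.card G := by
      refine dvd_trans ?_ (Subgroup.card_subgroup_dvd_card (S : Subgroup G))
      obtain ⟨k, hk⟩ := IsPGroup.iff_card.1 S.2
      have hle := (Subgroup.card_quotient_dvd_card N)
      rcases k with _ | k
      · rw [hk, pow_zero, Nat.dvd_one] at hle
        omega
      · exact hk ▸ dvd_pow_self 2 (Nat.succ_ne_zero k)
    have hmin : (Nat.card G).minFac = 2 :=
      (Nat.minFac_eq_two_iff _).2 h2
    exact ⟨S, _, MonoidHom.normal_ker _,
      IsCyclic.isComplement' (P := S) hmin hcyc⟩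
  by_cases hh : ∃ n k : ℕ, Nonempty ((S : Subgroup G) ≃* Multiplicative (Fin k → ZMod (2 ^ n)))
  · obtain ⟨n, k, ⟨e⟩⟩ := hh
    obtain ⟨q, hq⟩ := hQc.exists_generator
    obtain ⟨b, rfl⟩ := QuotientGroup.mk_surjective q
    obtain ⟨⟨a, ha⟩, hagen⟩ := hNc.exists_generator
    let E : ((Fin k → ZMod (2 ^ n))) → (S : Subgroup G) := fun v => e.symm (Multiplicative.ofAdd v)
    have hpow : ∀ g : (S : Subgroup G), g ^ 2 ^ n = 1 := by
      intro g
      apply e.injective
      rw [map_pow, map_one]
      apply Multiplicative.toAdd.injective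
      rw [toAdd_pow, toAdd_one]
      ext i
      simp
    haveI : NeZero (2 ^ n) := ⟨by positivity⟩
    have hcardS : Nat.card (S : Subgroup G) = (2 ^ n) ^ k := by
      rw [Nat.card_congr e.toEquiv, Nat.card_congr Multiplicative.toAdd]
      simp [Nat.card_eq_fintype_card]
    have hbound : Nat.card (S : Subgroup G) ≤ 2 ^ n * 2 ^ n := by
      rw [Subgroup.card_eq_card_quotient_mul_card_subgroup N]
      refine Nat.mul_le_mul ?_ ?_
      · rw [← orderOf_eq_card_of_forall_mem_zpowers hq]
        exact orderOf_le_of_pow_eq_one (by positivity)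
          (by rw [← QuotientGroup.mk_pow, hpow, QuotientGroup.mk_one])
      · rw [← orderOf_eq_card_of_forall_mem_zpowers hagen]
        exact orderOf_le_of_pow_eq_one (by positivity) (Subtype.ext (by simpa using hpow a))
    have hn : n ≠ 0 := by
      rintro rfl
      simp at hcardS
      have h1 := Subgroup.card_quotient_dvd_card N
      have h2 := Nat.le_of_dvd (Nat.card_pos) h1
      simp [hcardS] at h2
      omega
    have hk : k ≤ 2 := by
      rw [hcardS, ← sq] at hbound
      exact (Nat.pow_le_pow_iff_right (Nat.one_lt_two_pow hn)).1 hbound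
    interval_cases k
    · have : Nat.card (S : Subgroup G) = 1 := by simpa using hcardS
      haveI := (Nat.card_eq_one_iff_unique.1 this).1
      exact absurd isCyclic_of_subsingleton hcyc
    · refine absurd ?_ hcyc
      let e1 : Multiplicative (ZMod (2 ^ n)) ≃* (S : Subgroup G) :=
        (e.trans (AddEquiv.piUnique (fun _ : Fin 1 => ZMod (2 ^ n))).toMultiplicative).symm
      exact isCyclic_of_surjective e1.toMonoidHom e1.surjective
    · have hn2 : 2 ≤ n := by
        by_contra hlt
        obtain rfl : n = 1 := by omega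
        have hle := Subgroup.card_eq_card_quotient_mul_card_subgroup N
        rw [hcardS] at hle
        have hd := Subgroup.card_quotient_dvd_card N
        have hq2 : Nat.card ((S : Subgroup G) ⧸ N) ≤ 2 := by
          rw [← orderOf_eq_card_of_forall_mem_zpowers hq]
          have hb2 := hpow b
          rw [pow_one] at hb2
          exact orderOf_le_of_pow_eq_one (by norm_num)
            (by rw [← QuotientGroup.mk_pow, hb2, QuotientGroup.mk_one])
        omega
      exact isSolvable_of_homocyclic hFT S n hn2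
        (e.trans (LinearEquiv.finTwoArrow (ZMod (2 ^ n)) (ZMod (2 ^ n))).toAddEquiv.toMultiplicative)
  have hd : ¬ ∃ m : ℕ, Nonempty ((S : Subgroup G) ≃* DihedralGroup m) := by
    rintro ⟨m, ⟨e⟩⟩
    have := card_cyclic_quotient_le_two N hQc
      (mul_self_mem_commutator_of_equiv e (dihedral_mul_self_mem_commutator m))
    omega
  have hq : ¬ ∃ m : ℕ, Nonempty ((S : Subgroup G) ≃* QuaternionGroup m) := by
    rintro ⟨m, ⟨e⟩⟩
    rcases Nat.eq_zero_or_pos m with rfl | hm
    · haveI : Finite (QuaternionGroup 0) := Finite.of_equiv _ e.toEquiv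
      haveI : Finite (ZMod (2 * 0)) := Finite.of_injective
        (fun i => (QuaternionGroup.a i : QuaternionGroup 0)) (fun i j h => QuaternionGroup.a.inj h)
      haveI : Finite ℤ := (inferInstance : Finite (ZMod (2 * 0)))
      exact not_finite ℤ
    by_cases h2 : 2 ∣ m
    · have := card_cyclic_quotient_le_two N hQc
        (mul_self_mem_commutator_of_equiv e (quaternion_mul_self_mem_commutator m h2))
      omega
    · haveI : NeZero m := ⟨hm.ne'⟩
      obtain ⟨k, hk⟩ := IsPGroup.iff_card.1 S.2
      rw [Nat.card_congr e.toEquiv, Nat.card_eq_fintype_card, QuaternionGroup.card] at hk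
      have hdvd : m ∣ 2 ^ k := ⟨4, by omega⟩
      obtain ⟨i, -, rfl⟩ := (Nat.dvd_prime_pow Nat.prime_two).1 hdvd
      have hi : i = 0 := by
        by_contra hi
        exact h2 (dvd_pow_self 2 hi)
      subst hi
      refine hcyc ?_
      haveI : IsCyclic (QuaternionGroup (2 ^ 0)) := QuaternionGroup.quaternionGroup_one_isCyclic
      exact isCyclic_of_surjective e.symm e.symm.surjective
  have hsd : ¬ IsQuasiDihedral (S : Subgroup G) := by
    intro h
    have := card_cyclic_quotient_le_two N hQc (quasiDihedral_mul_self_mem_commutator h)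
    omega
  have hin := Cfsg.Agent.S5212.result S.2 (groupFusionSystem (S : Subgroup G))
    (Fusion.isSaturated_groupFusion S) ⟨N, inferInstance, hNc, hQc⟩ hh hd hq hsd
  refine isSolvable_of_hasNormalPComplement_two hFT
    (Transfer.hasNormalPComplement_of_control S fun x hx g hgx => ?_)
  have hR : Subgroup.zpowers x ≤ (S : Subgroup G) := Subgroup.zpowers_le.2 hx
  have hmem : ∀ r : Subgroup.zpowers x, g * (r : G) * g⁻¹ ∈ (S : Subgroup G) := by
    rintro ⟨r, i, rfl⟩
    show g * x ^ i * g⁻¹ ∈ (S : Subgroup G)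
    rw [← conj_zpow]
    exact Subgroup.zpow_mem _ hgx i
  let φ : Subgroup.zpowers x →* G :=
    (MulAut.conj g).toMonoidHom.comp (Subgroup.zpowers x).subtype
  have h1 : φ ∈ (innerFusionSystem (S : Subgroup G)).Hom (Subgroup.zpowers x) := by
    rw [← hin]
    exact ⟨hR, hmem, g, fun r => rfl⟩
  obtain ⟨-, k, hk, hk'⟩ := h1
  exact ⟨k, hk, (hk' ⟨x, Subgroup.mem_zpowers x⟩).symm⟩

end Cfsg.Agent.Lib.OddCond
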