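import Cfsg.Agent.Lib.OddCond.Basic
import Cfsg.Prelude.Def_OddOrder

/-!
Given the odd order theorem, the standing hypothesis of the odd-order milestone statements is empty.
-/

set_option autoImplicit false

universe u

namespace Cfsg.Agent.Lib.OddCond

/-- A group of odd order is not a minimal simple group, given the odd order theorem. -/
theorem not_isMinSimpleOddOrder (hFT : OddSolvable.{u}) (G : Type u) [Group G] [Finite G] :
    ¬ Cfsg.IsMinSimpleOddOrder G := by
  rintro ⟨hodd, hs, hnc, -⟩
  haveI := hs
  haveI := hFT G hodd
  exact hnc ⟨⟨fun a b => IsSimpleGroup.comm_iff_isSolvable.2 inferInstance a b⟩⟩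

end Cfsg.Agent.Lib.OddCond
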