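import Mathlib
import Cfsg.Agent.Lib.OddCond.Basic
import Cfsg.Agent.Lib.NonabelianFixed.Basic

/-!
Solvability of `[N, Q]` for a non-abelian 2-group `Q`, given the odd order theorem.
-/

set_option autoImplicit false

universe u

namespace Cfsg.Agent.Lib.OddCond

variable {G : Type u} [Group G] [Finite G]

theorem commutator_solvable_odd (hFT : OddSolvable.{u}) (N Q : Subgroup G) [hN : N.Normal]
    (hG : Q ⊔ N = ⊤) (hQ : IsPGroup 2 ↥Q) (hdisj : Q ⊓ N = ⊥) (t : G) (ht1 : t ≠ 1)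
    (htZ : t ∈ Q ⊓ Subgroup.centralizer (Q : Set G)) (htQ : t ∈ ⁅Q, Q⁆)
    (hC : N ⊓ Subgroup.centralizer (Q : Set G) = N ⊓ Subgroup.centralizer ({t} : Set G)) :
    Group.IsSolvable ↥⁅N, Q⁆ ∧ Odd (Nat.card ↥⁅N, Q⁆) := by
  have h : Odd (Nat.card ↥⁅N, Q⁆) :=
    NonabelianFixed.odd_commutator _ G le_rfl N Q hN hG hQ hdisj t ht1 htZ.1
      (fun q hq => Subgroup.mem_centralizer_iff.1 htZ.2 q hq) htQ (fun x hx hxt q hq => by
        have hm : x ∈ N ⊓ Subgroup.centralizer ({t} : Set G) :=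
          ⟨hx, Subgroup.mem_centralizer_singleton_iff.2 hxt⟩
        rw [← hC] at hm
        exact Subgroup.mem_centralizer_iff.1 hm.2 q hq)
  exact ⟨hFT _ h, h⟩

end Cfsg.Agent.Lib.OddCond
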