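import Mathlib
import Cfsg.Agent.Lib.OddCond.Basic
import Cfsg.Agent.Lib.Core.Fitting
import Cfsg.Agent.S1160
import Cfsg.Agent.S3360

/-!
A group of odd order acting transitively on the non-zero vectors of an elementary abelian group:
the Fitting subgroup is cyclic and semiregular and contains the commutator subgroup. The solvable
case needs nothing; the general one is reduced to it by the odd order theorem.
-/

set_option autoImplicit false
set_option linter.style.haveILetI false

universe u v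

namespace Cfsg.Agent.Lib.OddCond

open Cfsg

theorem finiteField_ringAut_comm {F : Type*} [Field F] [Finite F] (τ σ : F ≃+* F) (y : F) :
    τ (σ y) = σ (τ y) := by
  obtain ⟨p, hp⟩ := CharP.exists F
  haveI := hp
  haveI : Fact p.Prime := ⟨CharP.char_is_prime F p⟩
  letI : Algebra (ZMod p) F := ZMod.algebra F p
  have hlin : ∀ ρ : F ≃+* F, ∃ ρ' : F ≃ₐ[ZMod p] F, ∀ y, ρ' y = ρ y := fun ρ =>
    ⟨AlgEquiv.ofRingEquiv (f := ρ) fun y => congrFun (congrArg DFunLike.coe
      (RingHom.ext_zmod (ρ.toRingHom.comp (algebraMap (ZMod p) F)) (algebraMap (ZMod p) F))) y,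
      fun y => rfl⟩
  obtain ⟨τ', hτ'⟩ := hlin τ
  obtain ⟨σ', hσ'⟩ := hlin σ
  obtain ⟨g, hg⟩ := IsCyclic.exists_generator (α := F ≃ₐ[ZMod p] F)
  obtain ⟨i, hi⟩ := Subgroup.mem_zpowers_iff.1 (hg τ')
  obtain ⟨j, hj⟩ := Subgroup.mem_zpowers_iff.1 (hg σ')
  have hc : τ' * σ' = σ' * τ' := by rw [← hi, ← hj]; exact ((Commute.refl g).zpow_zpow i j).eq
  rw [← hτ', ← hσ', ← hσ', ← hτ']
  exact DFunLike.congr_fun hc y

theorem finiteField_ringAut_isCyclic {F : Type*} [Field F] [Finite F] : IsCyclic (F ≃+* F) := by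
  obtain ⟨p, hp⟩ := CharP.exists F
  haveI := hp
  haveI : Fact p.Prime := ⟨CharP.char_is_prime F p⟩
  letI : Algebra (ZMod p) F := ZMod.algebra F p
  let f : (F ≃ₐ[ZMod p] F) →* (F ≃+* F) :=
    { toFun := fun g => g.toRingEquiv, map_one' := rfl, map_mul' := fun _ _ => rfl }
  exact isCyclic_of_surjective f fun ρ =>
    ⟨AlgEquiv.ofRingEquiv (f := ρ) fun y => congrFun (congrArg DFunLike.coe
      (RingHom.ext_zmod (ρ.toRingHom.comp (algebraMap (ZMod p) F)) (algebraMap (ZMod p) F))) y,
      RingEquiv.ext fun _ => rfl⟩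

variable {D : Type u} {E : Type v} [Group D] [Finite D] [AddCommGroup E] [Finite E]
  [DistribMulAction D E]

theorem card_stabilizer_normal_eq (N : Subgroup D) [hN : N.Normal]
    (htrans : ∀ a b : E, a ≠ 0 → b ≠ 0 → ∃ d : D, d • a = b) {a b : E} (ha : a ≠ 0) (hb : b ≠ 0) :
    Nat.card (MulAction.stabilizer N a) = Nat.card (MulAction.stabilizer N b) := by
  obtain ⟨d, rfl⟩ := htrans a b ha hb
  refine Nat.card_congr
    { toFun := fun n => ⟨⟨d * (n : N) * d⁻¹, hN.conj_mem _ n.1.2 d⟩, ?_⟩
      invFun := fun n => ⟨⟨d⁻¹ * (n : N) * d, by simpa using hN.conj_mem _ n.1.2 d⁻¹⟩, ?_⟩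
      left_inv := fun n => by ext; simp [mul_assoc]
      right_inv := fun n => by ext; simp [mul_assoc] }
  · show (d * (n : N) * d⁻¹ : D) • d • a = d • a
    rw [mul_smul, mul_smul, inv_smul_smul]
    exact congrArg (d • ·) n.2
  · show (d⁻¹ * (n : N) * d : D) • a = a
    rw [mul_smul, mul_smul, inv_smul_eq_iff]
    exact n.2

theorem fittingSubgroup_cyclic_semiregular [FaithfulSMul D E] (hodd : Odd (Nat.card D)) {q : ℕ}
    (hq : q.Prime) (hE : ∀ e : E, q • e = 0)
    (htrans : ∀ a b : E, a ≠ 0 → b ≠ 0 → ∃ d : D, d • a = b) :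
    IsCyclic (fittingSubgroup D) ∧
      ∀ g ∈ fittingSubgroup D, g ≠ 1 → ∀ a : E, g • a = a → a = 0 := by
  haveI hnil : Group.IsNilpotent (fittingSubgroup D) := Fitting.isNilpotent_fittingSubgroup
  have key : ∀ r : ℕ, r.Prime → IsCyclic (pCore r D) ∧
      ∀ g : pCore r D, g ≠ 1 → ∀ a : E, g • a = a → a = 0 := by
    intro r hr
    haveI : Fact r.Prime := ⟨hr⟩
    by_cases hbot : pCore r D = ⊥
    · have hsub : Subsingleton (pCore r D) := by rw [hbot]; infer_instance
      exact ⟨isCyclic_of_subsingleton, fun g hg => absurd (Subsingleton.elim g 1) hg⟩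
    have hP : IsPGroup r (pCore r D) := PSolvable.pCore_isPGroup
    have hr2 : r ≠ 2 := by
      rintro rfl
      obtain ⟨k, hk⟩ := IsPGroup.iff_card.1 hP
      have h1 := Subgroup.card_subgroup_dvd_card (pCore 2 D)
      rcases k with _ | k
      · exact hbot (Subgroup.card_eq_one.1 (by simpa using hk))
      · exact Nat.not_even_iff_odd.2 hodd
          (even_iff_two_dvd.2 ((dvd_pow_self 2 k.succ_ne_zero).trans (hk ▸ h1)))
    haveI : (pCore r D).Normal := by
      haveI := PSolvable.pCore_characteristic (p := r) (G := D)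
      infer_instance
    exact Cfsg.Agent.S1160.result hr2 hP hq hE
      (fun a b ha hb => card_stabilizer_normal_eq _ htrans ha hb)
  have hsylow : ∀ r : ℕ, r.Prime → ∀ P : Sylow r (fittingSubgroup D),
      (P : Subgroup (fittingSubgroup D)).map (fittingSubgroup D).subtype ≤ pCore r D := by
    intro r hr P
    haveI : Fact r.Prime := ⟨hr⟩
    haveI hPn : (P : Subgroup (fittingSubgroup D)).Normal :=
      (((Group.isNilpotent_of_finite_tfae (G := fittingSubgroup D)).out 0 3).mp hnil :
        ∀ (r : ℕ) (_ : Fact r.Prime) (P : Sylow r (fittingSubgroup D)),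
          (P : Subgroup (fittingSubgroup D)).Normal) r ⟨hr⟩ P
    haveI : (P : Subgroup (fittingSubgroup D)).Characteristic := P.characteristic_of_normal hPn
    haveI := Fitting.fittingSubgroup_normal (G := D)
    exact PSolvable.le_pCore (P.2.map _)
  refine ⟨?_, fun g hg hg1 a hga => ?_⟩
  · haveI : IsZGroup (fittingSubgroup D) := ⟨fun r hr P => by
      haveI := (key r hr).1
      haveI : IsCyclic ((P : Subgroup (fittingSubgroup D)).map (fittingSubgroup D).subtype) :=
        isCyclic_of_injective (Subgroup.inclusion (hsylow r hr P))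
          (Subgroup.inclusion_injective _)
      haveI := isCyclic_of_surjective
        (Subgroup.equivMapOfInjective (P : Subgroup (fittingSubgroup D)) _
          (fittingSubgroup D).subtype_injective).symm.toMonoidHom (MulEquiv.surjective _)
      exact inferInstance⟩
    infer_instance
  · set o := orderOf g
    have ho : o ≠ 1 := fun h => hg1 (orderOf_eq_one_iff.1 h)
    obtain ⟨r, hr, hro⟩ := Nat.exists_prime_and_dvd ho
    haveI : Fact r.Prime := ⟨hr⟩
    set h := g ^ (o / r) with hh
    have hord : orderOf h = r := orderOf_pow_orderOf_div (orderOf_pos g).ne' hro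
    have hF : h ∈ fittingSubgroup D := Subgroup.pow_mem _ hg _
    have hpow : IsPGroup r (Subgroup.zpowers (⟨h, hF⟩ : fittingSubgroup D)) := by
      refine IsPGroup.of_card (n := 1) ?_
      rw [Nat.card_zpowers, Subgroup.orderOf_mk, hord, pow_one]
    obtain ⟨P, hP⟩ := hpow.exists_le_sylow
    have hcore : h ∈ pCore r D :=
      hsylow r hr P ⟨_, hP (Subgroup.mem_zpowers _), rfl⟩
    have hne : (⟨h, hcore⟩ : pCore r D) ≠ 1 := fun e => by
      have : h = 1 := congrArg Subtype.val e
      rw [this, orderOf_one] at hord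
      exact hr.one_lt.ne' hord.symm
    refine (key r hr).2 _ hne a ?_
    show h • a = a
    exact MulAction.mem_stabilizer_iff.1
      (Subgroup.pow_mem (MulAction.stabilizer D a) (MulAction.mem_stabilizer_iff.2 hga) _)

theorem exists_cyclic_over_fitting [FaithfulSMul D E] [Nontrivial E] [Group.IsSolvable D]
    (hodd : Odd (Nat.card D)) {q : ℕ} (hq : q.Prime) (hE : ∀ e : E, q • e = 0)
    (htrans : ∀ a b : E, a ≠ 0 → b ≠ 0 → ∃ d : D, d • a = b) :
    ∃ (A : Subgroup D) (_ : A.Normal), IsMulCommutative A ∧ commutator D ≤ A ∧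
      A ≤ fittingSubgroup D ∧ IsCyclic (D ⧸ A) := by
  classical
  haveI : Fact q.Prime := ⟨hq⟩
  haveI : Module (ZMod q) E := AddCommGroup.zmodModule hE
  haveI : SMulCommClass D (ZMod q) E :=
    ⟨fun d c x => ZMod.map_smul (DistribSMul.toAddMonoidHom E d) c x⟩
  let ρ : D →* (E ≃ₗ[ZMod q] E) := DistribMulAction.toModuleAut (S := D) (ZMod q) E
  have hρ : Function.Injective ρ := fun c d h =>
    FaithfulSMul.eq_of_smul_eq_smul fun x => LinearEquiv.congr_fun h x
  have hcard2 : ∀ n : ℕ, Odd n → n ≠ 1 → Nat.card E = n → False := by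
    intro n hn hn1 hEn
    haveI : Fintype E := Fintype.ofFinite E
    obtain ⟨a, ha⟩ := exists_ne (0 : E)
    have horb : MulAction.orbit D a = {x : E | x ≠ 0} := by
      ext x
      refine ⟨?_, fun hx => ?_⟩
      · rintro ⟨d, rfl⟩
        exact smul_ne_zero_iff_ne d |>.2 ha
      · exact htrans a x ha hx
    have h1 : Nat.card (MulAction.orbit D a) ∣ Nat.card D := by
      rw [Nat.card_coe_set_eq, ← MulAction.index_stabilizer]
      exact Subgroup.index_dvd_card _
    have h2 : Nat.card (MulAction.orbit D a) = n - 1 := by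
      rw [horb, Nat.card_coe_set_eq, show {x : E | x ≠ 0} = ({0} : Set E)ᶜ from rfl,
        Set.ncard_compl, Set.ncard_singleton, hEn]
    obtain ⟨k, hk⟩ := hn
    rw [h2, hk] at h1
    refine Nat.not_even_iff_odd.2 hodd (even_iff_two_dvd.2 (dvd_trans ?_ h1))
    exact ⟨k, by omega⟩
  rcases Cfsg.Agent.S3360.result q (V := E) (G := D) inferInstance ρ hρ htrans with h | h
  swap
  · exfalso
    simp only [Set.mem_insert_iff, Set.mem_singleton_iff] at h
    rcases h with h | h | h | h | h | h <;>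
      exact hcard2 _ (by decide) (by decide) h
  obtain ⟨F, _, _, e, he⟩ := h
  choose c σ hcσ using he
  have hc : ∀ d, c d ≠ 0 := by
    intro d hd
    obtain ⟨a, ha⟩ := exists_ne (0 : E)
    have := hcσ d a
    rw [hd, zero_mul, AddEquiv.map_eq_zero_iff, LinearEquiv.map_eq_zero_iff] at this
    exact ha this
  have huniq : ∀ d (b : F) (τ : F ≃+* F), (∀ v, e (ρ d v) = b * τ (e v)) → τ = σ d := by
    intro d b τ h
    have h1 := h (e.symm 1)
    rw [hcσ, e.apply_symm_apply, map_one, map_one, mul_one, mul_one] at h1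
    ext y
    have h2 := h (e.symm y)
    rw [hcσ, e.apply_symm_apply, ← h1] at h2
    exact (mul_left_cancel₀ (hc d) h2).symm
  have hmul : ∀ d d', σ (d * d') = σ d * σ d' := fun d d' =>
    (huniq (d * d') (c d * σ d (c d')) (σ d * σ d') fun v => by
      rw [map_mul, show (ρ d * ρ d') v = ρ d (ρ d' v) from rfl, hcσ, hcσ, map_mul, mul_assoc]
      rfl).symm
  let π : D →* (F ≃+* F) := MonoidHom.mk' σ hmul
  refine ⟨π.ker, inferInstance, ⟨⟨fun x y => Subtype.ext ?_⟩⟩, ?_, ?_, ?_⟩
  · apply hρ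
    ext v
    apply e.injective
    have hx : σ (x : D) = 1 := x.2
    have hy : σ (y : D) = 1 := y.2
    rw [Subgroup.coe_mul, Subgroup.coe_mul, map_mul, map_mul,
      show (ρ (x : D) * ρ (y : D)) v = ρ (x : D) (ρ (y : D) v) from rfl,
      show (ρ (y : D) * ρ (x : D)) v = ρ (y : D) (ρ (x : D) v) from rfl,
      hcσ, hcσ, hcσ, hcσ, hx, hy]
    simp only [RingAut.one_apply]
    ring
  · rw [commutator_def, Subgroup.commutator_le]
    intro a _ b _
    rw [MonoidHom.mem_ker, map_commutatorElement, commutatorElement_eq_one_iff_mul_comm]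
    exact RingEquiv.ext fun y => finiteField_ringAut_comm _ _ y
  · haveI : IsMulCommutative π.ker := ⟨⟨fun x y => Subtype.ext (by
      apply hρ
      ext v
      apply e.injective
      have hx : σ (x : D) = 1 := x.2
      have hy : σ (y : D) = 1 := y.2
      rw [Subgroup.coe_mul, Subgroup.coe_mul, map_mul, map_mul,
        show (ρ (x : D) * ρ (y : D)) v = ρ (x : D) (ρ (y : D) v) from rfl,
        show (ρ (y : D) * ρ (x : D)) v = ρ (y : D) (ρ (x : D) v) from rfl,
        hcσ, hcσ, hcσ, hcσ, hx, hy]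
      simp only [RingAut.one_apply]
      ring)⟩⟩
    letI : CommGroup π.ker :=
      { (inferInstance : Group π.ker) with mul_comm := IsMulCommutative.is_comm.comm }
    exact Fitting.le_fittingSubgroup inferInstance
  · haveI := finiteField_ringAut_isCyclic (F := F)
    exact isCyclic_of_injective (QuotientGroup.kerLift π) (QuotientGroup.kerLift_injective π)

theorem commutator_le_fitting_of_solvable [FaithfulSMul D E] [Nontrivial E] [Group.IsSolvable D]
    (hodd : Odd (Nat.card D)) {q : ℕ} (hq : q.Prime) (hE : ∀ e : E, q • e = 0)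
    (htrans : ∀ a b : E, a ≠ 0 → b ≠ 0 → ∃ d : D, d • a = b) :
    ∃ A : Subgroup D, A.Normal ∧ IsMulCommutative A ∧ commutator D ≤ A ∧ A ≤ fittingSubgroup D := by
  obtain ⟨A, hA, h1, h2, h3, -⟩ := exists_cyclic_over_fitting hodd hq hE htrans
  exact ⟨A, hA, h1, h2, h3⟩

theorem odd_transitive_linear (hFT : OddSolvable.{u}) [FaithfulSMul D E] [Nontrivial E]
    (hodd : Odd (Nat.card D)) {q : ℕ} (hq : q.Prime) (hE : ∀ e : E, q • e = 0)
    (htrans : ∀ a b : E, a ≠ 0 → b ≠ 0 → ∃ d : D, d • a = b) :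
    IsCyclic (fittingSubgroup D) ∧
      (∀ g ∈ fittingSubgroup D, g ≠ 1 → ∀ a : E, g • a = a → a = 0) ∧
      commutator D ≤ fittingSubgroup D := by
  haveI := hFT D hodd
  obtain ⟨h1, h2⟩ := fittingSubgroup_cyclic_semiregular hodd hq hE htrans
  obtain ⟨A, -, -, h3, h4⟩ := commutator_le_fitting_of_solvable hodd hq hE htrans
  exact ⟨h1, h2, h3.trans h4⟩

end Cfsg.Agent.Lib.OddCond
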