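import Mathlib
import Cfsg.Prelude.Def_KGroupFacts
import Cfsg.Agent.Lib.OddCond.Basic
import Cfsg.Agent.Lib.ZStar.SylowCentralizer
import Cfsg.Agent.Lib.RankTwoAut.Essential
import Cfsg.Agent.S3378

/-!
Solvability of the outer automorphism group of a simple group from its Sylow 2-subgroup, with the
odd order theorem as an explicit hypothesis: the automorphisms fixing a Sylow 2-subgroup `S`
pointwise have a normal 2-complement (Z*-theorem), so everything is decided by the automorphisms
induced on `S`.  Written by helper7.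
-/

set_option autoImplicit false

namespace Cfsg.Agent.Lib.OddCond.OutSolvable

open Subgroup Cfsg
open scoped commutatorElement

universe u

variable {G : Type u} [Group G] [Finite G]

theorem isSolvable_of_ker_range {H M : Type*} [Group H] [Group M] (f : H →* M)
    (hk : Group.IsSolvable f.ker) (hr : Group.IsSolvable f.range) : Group.IsSolvable H :=
  Group.isSolvable_of_ker_le_range f.ker.subtype f.rangeRestrict
    (by rw [MonoidHom.ker_rangeRestrict, range_subtype])

theorem finite_mulAut (H : Type*) [Group H] [Finite H] : Finite (MulAut H) :=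
  Finite.of_injective (fun f : MulAut H => (f : H → H)) DFunLike.coe_injective

theorem oddCore_eq_bot [IsSimpleGroup G] (S : Sylow 2 G) (hS : (S : Subgroup G) ≠ ⊥) :
    oddCore G = ⊥ := by
  haveI : Fact (Nat.Prime 2) := ⟨Nat.prime_two⟩
  haveI : (oddCore G).Normal := pPrimeCore_normal 2 G
  rcases IsSimpleGroup.eq_bot_or_eq_top_of_normal (oddCore G) inferInstance with h | h
  · exact h
  exfalso
  have hodd : Odd (Nat.card G) := by
    have := PSolvable.pPrimeCore_not_dvd (p := 2) (G := G)
    rw [show pPrimeCore 2 G = ⊤ from h, Subgroup.card_top] at this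
    exact Nat.not_even_iff_odd.1 fun he => this (even_iff_two_dvd.1 he)
  obtain ⟨k, hk⟩ := IsPGroup.iff_card.1 S.2
  rcases k with - | k
  · exact hS (Subgroup.card_eq_one.1 (by rw [hk, pow_zero]))
  · refine Nat.not_even_iff_odd.2 hodd (even_iff_two_dvd.2 ?_)
    exact (hk ▸ dvd_pow_self 2 k.succ_ne_zero).trans (card_subgroup_dvd_card _)

/-- The automorphisms of `G` mapping `S` into itself. -/
def stabSylow (S : Sylow 2 G) : Subgroup (MulAut G) where
  carrier := {a | (S : Subgroup G).map a.toMonoidHom = S}
  one_mem' := by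
    show (S : Subgroup G).map (MonoidHom.id G) = S
    exact Subgroup.map_id _
  mul_mem' {a b} ha hb := by
    show (S : Subgroup G).map (a.toMonoidHom.comp b.toMonoidHom) = S
    rw [← Subgroup.map_map, show (S : Subgroup G).map b.toMonoidHom = S from hb,
      show (S : Subgroup G).map a.toMonoidHom = S from ha]
  inv_mem' {a} ha := by
    have h : (S : Subgroup G).map a.toMonoidHom = S := ha
    show (S : Subgroup G).map a⁻¹.toMonoidHom = S
    conv_lhs => rw [← h, Subgroup.map_map]
    have h1 : a⁻¹.toMonoidHom.comp a.toMonoidHom = MonoidHom.id G :=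
      MonoidHom.ext fun x => a.symm_apply_apply x
    rw [h1, Subgroup.map_id]

theorem apply_mem {S : Sylow 2 G} {a : MulAut G} (ha : a ∈ stabSylow S) {s : G}
    (hs : s ∈ (S : Subgroup G)) : a s ∈ (S : Subgroup G) := by
  have h : (S : Subgroup G).map a.toMonoidHom = S := ha
  rw [← h]
  exact mem_map_of_mem _ hs

/-- Restriction to `S`. -/
def restr (S : Sylow 2 G) : stabSylow S →* MulAut ↥(S : Subgroup G) where
  toFun a :=
    { toFun := fun s => ⟨(a : MulAut G) s, apply_mem a.2 s.2⟩
      invFun := fun s => ⟨((a⁻¹ : stabSylow S) : MulAut G) s, apply_mem (a⁻¹).2 s.2⟩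
      left_inv := fun s => Subtype.ext ((a : MulAut G).symm_apply_apply s)
      right_inv := fun s => Subtype.ext ((a : MulAut G).apply_symm_apply s)
      map_mul' := fun x y => Subtype.ext (map_mul (a : MulAut G) (x : G) y) }
  map_one' := rfl
  map_mul' _ _ := rfl

theorem restr_apply (S : Sylow 2 G) (a : stabSylow S) (s : ↥(S : Subgroup G)) :
    ((restr S a s : ↥(S : Subgroup G)) : G) = (a : MulAut G) s := rfl

theorem isSolvable_restr_ker (hFT : OddSolvable.{u}) [IsSimpleGroup G] (S : Sylow 2 G)
    (hS : (S : Subgroup G) ≠ ⊥) : Group.IsSolvable (restr S).ker := by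
  haveI := finite_mulAut G
  set C := (restr S).ker.map (stabSylow S).subtype with hC
  have hnpc : HasNormalPComplement 2 C := by
    refine ZStar.SylowCentralizer.hasNormalPComplement (oddCore_eq_bot S hS) S C ?_
    rintro _ ⟨a, ha, rfl⟩ s hs
    have := congrArg (fun e : MulAut ↥(S : Subgroup G) => ((e ⟨s, hs⟩ : ↥(S : Subgroup G)) : G))
      (MonoidHom.mem_ker.1 ha)
    exact this
  haveI := isSolvable_of_hasNormalPComplement_two hFT hnpc
  have hinj := equivMapOfInjective (restr S).ker (stabSylow S).subtype (stabSylow S).subtype_injective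
  exact Group.isSolvable_of_isSolvable_injective (f := hinj.toMonoidHom) hinj.injective

/-- Frattini argument: `Out G` is solvable once the group induced on `S` is. -/
theorem isSolvable_out (hFT : OddSolvable.{u}) [IsSimpleGroup G] (S : Sylow 2 G)
    (hS : (S : Subgroup G) ≠ ⊥) (hr : Group.IsSolvable (restr S).range) :
    Group.IsSolvable (Cfsg.Out G) := by
  haveI : Fact (Nat.Prime 2) := ⟨Nat.prime_two⟩
  haveI : Group.IsSolvable (stabSylow S) :=
    isSolvable_of_ker_range _ (isSolvable_restr_ker hFT S hS) hr
  refine Group.isSolvable_of_surjective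
    (f := (QuotientGroup.mk' (Cfsg.Inn G)).comp (stabSylow S).subtype) ?_
  intro q
  obtain ⟨a, rfl⟩ := QuotientGroup.mk_surjective q
  have hcard : Nat.card ((S : Subgroup G).map a.toMonoidHom) =
      2 ^ (Nat.card G).factorization 2 := by
    rw [card_map_of_injective (f := a.toMonoidHom) a.injective, S.card_eq_multiplicity]
  let T : Sylow 2 G := Sylow.ofCard _ hcard
  obtain ⟨g, hg⟩ := MulAction.exists_smul_eq G T S
  have hg' : ((S : Subgroup G).map a.toMonoidHom).map (MulAut.conj g).toMonoidHom = S := by
    conv_rhs => rw [← hg]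
    rfl
  refine ⟨⟨MulAut.conj g * a, ?_⟩, ?_⟩
  · show (S : Subgroup G).map ((MulAut.conj g).toMonoidHom.comp a.toMonoidHom) = S
    rw [← Subgroup.map_map]
    exact hg'
  · show ((MulAut.conj g * a : MulAut G) : MulAut G ⧸ Cfsg.Inn G) = a
    rw [QuotientGroup.mk_mul, (QuotientGroup.eq_one_iff (N := Cfsg.Inn G) (MulAut.conj g)).2 ⟨g, rfl⟩, one_mul]

section quotient

variable {P : Type*} [Group P] [Finite P]

/-- The action on the Frattini quotient. -/
noncomputable def modPhi (P : Type*) [Group P] [Finite P] :
    MulAut P →* MulAut (P ⧸ frattini P) where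
  toFun θ := QuotientGroup.congr (frattini P) (frattini P) θ
    (Subgroup.characteristic_iff_map_eq.mp inferInstance θ)
  map_one' := MulEquiv.ext fun u => by
    obtain ⟨x, rfl⟩ := QuotientGroup.mk_surjective u; rfl
  map_mul' θ θ' := MulEquiv.ext fun u => by
    obtain ⟨x, rfl⟩ := QuotientGroup.mk_surjective u; rfl

theorem isPGroup_modPhi_ker (h2 : IsPGroup 2 P) : IsPGroup 2 (modPhi P).ker := by
  haveI : Fact (Nat.Prime 2) := ⟨Nat.prime_two⟩
  refine RankTwoAut.isPGroup_of_trivial_on_frattini h2 _ fun α hα x => ?_
  rw [← QuotientGroup.eq]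
  exact (congrArg (fun e : MulAut (P ⧸ frattini P) => e (x : P ⧸ frattini P))
    (MonoidHom.mem_ker.1 hα)).symm

theorem isSolvable_of_two_group {H : Type*} [Group H] [Finite H] (h : IsPGroup 2 H) :
    Group.IsSolvable H := by
  haveI : Fact (Nat.Prime 2) := ⟨Nat.prime_two⟩
  haveI := h.isNilpotent
  infer_instance

theorem isSolvable_of_modPhi (h2 : IsPGroup 2 P) (H : Subgroup (MulAut P))
    (h : Group.IsSolvable (H.map (modPhi P))) : Group.IsSolvable H := by
  haveI := finite_mulAut P
  refine isSolvable_of_ker_range ((modPhi P).comp H.subtype) ?_ ?_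
  · have hle : ((modPhi P).comp H.subtype).ker.map H.subtype ≤ (modPhi P).ker := by
      rintro _ ⟨a, ha, rfl⟩
      exact ha
    refine isSolvable_of_two_group ?_
    exact ((isPGroup_modPhi_ker h2).to_le hle).of_equiv
      (equivMapOfInjective _ H.subtype H.subtype_injective).symm
  · rwa [MonoidHom.range_comp, range_subtype]

/-- A 2-group with Frattini quotient of order at most four has a solvable automorphism group. -/
theorem isSolvable_mulAut_of_small (h2 : IsPGroup 2 P) (hc : Nat.card (P ⧸ frattini P) ≤ 4)
    (H : Subgroup (MulAut P)) : Group.IsSolvable H := by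
  haveI := finite_mulAut (P ⧸ frattini P)
  refine isSolvable_of_modPhi h2 H (S3378.isSolvable_of_card_lt _ _ rfl ?_)
  have h1 : Nat.card (H.map (modPhi P)) ≤ Nat.card (Equiv.Perm (P ⧸ frattini P)) :=
    Nat.card_le_card_of_injective
      (fun a => ((a : MulAut (P ⧸ frattini P)) : P ⧸ frattini P ≃* P ⧸ frattini P).toEquiv)
      fun a b hab => Subtype.ext (MulEquiv.toEquiv_injective hab)
  rw [Nat.card_perm] at h1
  have h3 := Nat.factorial_le hc
  have : (4 : ℕ).factorial = 24 := rfl
  omega

theorem quotient_sq (h2 : IsPGroup 2 P) (u : P ⧸ frattini P) : u * u = 1 := by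
  haveI : Fact (Nat.Prime 2) := ⟨Nat.prime_two⟩
  obtain ⟨x, rfl⟩ := QuotientGroup.mk_surjective u
  rw [← QuotientGroup.mk_mul, QuotientGroup.eq_one_iff, ← sq]
  exact PFrattini.pow_mem_frattini h2 x

theorem quotient_comm (h2 : IsPGroup 2 P) (u v : P ⧸ frattini P) : u * v = v * u :=
  calc u * v = (u * v)⁻¹ := (inv_eq_of_mul_eq_one_right (quotient_sq h2 _)).symm
    _ = v⁻¹ * u⁻¹ := mul_inv_rev u v
    _ = v * u := by
      rw [inv_eq_of_mul_eq_one_right (quotient_sq h2 u), inv_eq_of_mul_eq_one_right (quotient_sq h2 v)]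

end quotient

section main

variable [IsSimpleGroup G]

/-- `Aut S` solvable forces `Out G` solvable. -/
theorem out_of_mulAut (hFT : OddSolvable.{u}) (S : Sylow 2 G) (hS : (S : Subgroup G) ≠ ⊥)
    (h : Group.IsSolvable (MulAut ↥(S : Subgroup G))) : Group.IsSolvable (Cfsg.Out G) :=
  isSolvable_out hFT S hS inferInstance

theorem card_quotient_frattini_le_of_pair {P : Type*} [Group P] [Finite P] (h2 : IsPGroup 2 P)
    {a b : P} (hab : closure ({a, b} : Set P) = ⊤) : Nat.card (P ⧸ frattini P) ≤ 4 := by
  classical
  set A : P ⧸ frattini P := (a : P ⧸ frattini P)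
  set B : P ⧸ frattini P := (b : P ⧸ frattini P)
  set T : Finset (P ⧸ frattini P) := {1, A, B, A * B}
  have hall : ∀ u : P ⧸ frattini P, u ∈ T := by
    intro u
    obtain ⟨x, rfl⟩ := QuotientGroup.mk_surjective u
    have hx : x ∈ closure ({a, b} : Set P) := hab ▸ mem_top x
    obtain ⟨i, j, hij⟩ : ∃ i j : Bool,
        (x : P ⧸ frattini P) = (if i then A else 1) * (if j then B else 1) := by
      induction hx using Subgroup.closure_induction with
      | mem y hy =>
        rcases hy with rfl | hy
        · exact ⟨true, false, by simp [A]⟩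
        · rw [Set.mem_singleton_iff] at hy
          subst hy
          exact ⟨false, true, by simp [B]⟩
      | one => exact ⟨false, false, by simp⟩
      | mul y z _ _ hy hz =>
        obtain ⟨i, j, h⟩ := hy
        obtain ⟨k, l, h'⟩ := hz
        refine ⟨xor i k, xor j l, ?_⟩
        rw [QuotientGroup.mk_mul, h, h', mul_assoc, ← mul_assoc (if j then B else 1),
          quotient_comm h2 (if j then B else 1) (if k then A else 1), mul_assoc, ← mul_assoc]
        cases i <;> cases j <;> cases k <;> cases l <;>
          simp [mul_assoc, quotient_sq h2]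
      | inv y _ hy =>
        obtain ⟨i, j, h⟩ := hy
        refine ⟨i, j, ?_⟩
        rw [QuotientGroup.mk_inv, inv_eq_of_mul_eq_one_right (quotient_sq h2 _), h]
    rw [hij]
    cases i <;> cases j <;> simp [T]
  calc Nat.card (P ⧸ frattini P) ≤ T.card := by
        haveI := Fintype.ofFinite (P ⧸ frattini P)
        rw [Nat.card_eq_fintype_card, ← Finset.card_univ]
        exact Finset.card_le_card fun u _ => hall u
    _ ≤ 4 := Finset.card_le_four

theorem out_of_small (hFT : OddSolvable.{u}) (S : Sylow 2 G) (hS : (S : Subgroup G) ≠ ⊥)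
    (h : Nat.card (↥(S : Subgroup G) ⧸ frattini ↥(S : Subgroup G)) ≤ 4) :
    Group.IsSolvable (Cfsg.Out G) :=
  isSolvable_out hFT S hS (isSolvable_mulAut_of_small S.2 h _)

theorem out_of_two_generators (hFT : OddSolvable.{u}) (S : Sylow 2 G) (hS : (S : Subgroup G) ≠ ⊥)
    {a b : ↥(S : Subgroup G)} (hab : closure ({a, b} : Set ↥(S : Subgroup G)) = ⊤) :
    Group.IsSolvable (Cfsg.Out G) :=
  out_of_small hFT S hS (card_quotient_frattini_le_of_pair S.2 hab)

/-- The normalizer of `S` inside the stabilizer of `S`. -/
def normConj (S : Sylow 2 G) : normalizer ((S : Subgroup G) : Set G) →* stabSylow S where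
  toFun n := ⟨MulAut.conj (n : G), by
    show (S : Subgroup G).map (MulAut.conj (n : G)).toMonoidHom = S
    ext x
    rw [Subgroup.mem_map]
    constructor
    · rintro ⟨y, hy, rfl⟩
      exact (mem_normalizer_iff.1 n.2 y).1 hy
    · intro hx
      refine ⟨(n : G)⁻¹ * x * n, (mem_normalizer_iff.1 n.2 _).2 ?_, by simp [mul_assoc]⟩
      rw [show (n : G) * ((n : G)⁻¹ * x * n) * (n : G)⁻¹ = x by group]
      exact hx⟩
  map_one' := Subtype.ext (map_one MulAut.conj)
  map_mul' a b := Subtype.ext (map_mul MulAut.conj (a : G) (b : G))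

theorem normConj_range_normal (S : Sylow 2 G) : (normConj S).range.Normal := by
  refine ⟨?_⟩
  rintro _ ⟨n, rfl⟩ a
  have hn : (a : MulAut G) (n : G) ∈ normalizer ((S : Subgroup G) : Set G) := by
    rw [mem_normalizer_iff]
    intro x
    have h1 := mem_normalizer_iff.1 n.2 ((a : MulAut G).symm x)
    have hiff : ∀ y : G, (a : MulAut G).symm y ∈ (S : Subgroup G) ↔ y ∈ (S : Subgroup G) := by
      refine fun y => ⟨fun h => ?_, fun h => ?_⟩
      · have := apply_mem a.2 h
        rwa [MulEquiv.apply_symm_apply] at this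
      · exact apply_mem (a⁻¹).2 h
    rw [hiff] at h1
    rw [h1, ← hiff ((a : MulAut G) (n : G) * x * ((a : MulAut G) (n : G))⁻¹)]
    simp [map_mul, map_inv]
  refine ⟨⟨_, hn⟩, Subtype.ext (MulEquiv.ext fun x => ?_)⟩
  show (a : MulAut G) (n : G) * x * ((a : MulAut G) (n : G))⁻¹ =
    (a : MulAut G) ((n : G) * (a : MulAut G).symm x * (n : G)⁻¹)
  simp [map_mul, map_inv]

/-- The automorphisms of an elementary abelian group of order eight number at most 168. -/
theorem card_mulAut_le {V : Type*} [Group V] [Finite V] (hV : Nat.card V = 8)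
    (hsq : ∀ u : V, u * u = 1) (hcomm : ∀ u v : V, u * v = v * u) :
    Nat.card (MulAut V) ≤ 168 := by
  classical
  haveI := Fintype.ofFinite V
  haveI := finite_mulAut V
  have hV' : Fintype.card V = 8 := by rw [← Nat.card_eq_fintype_card, hV]
  obtain ⟨a, ha⟩ : ∃ a : V, a ∉ ({1} : Finset V) := by
    by_contra h
    push Not at h
    have := Finset.card_le_card (s := Finset.univ) (fun x _ => h x)
    rw [Finset.card_univ, hV', Finset.card_singleton] at this
    omega
  obtain ⟨b, hb⟩ : ∃ b : V, b ∉ ({1, a} : Finset V) := by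
    by_contra h
    push Not at h
    have := (Finset.card_le_card (s := Finset.univ) (fun x _ => h x)).trans Finset.card_le_two
    rw [Finset.card_univ, hV'] at this
    omega
  obtain ⟨c, hc⟩ : ∃ c : V, c ∉ ({1, a, b, a * b} : Finset V) := by
    by_contra h
    push Not at h
    have := (Finset.card_le_card (s := Finset.univ) (fun x _ => h x)).trans Finset.card_le_four
    rw [Finset.card_univ, hV'] at this
    omega
  simp only [Finset.mem_insert, Finset.mem_singleton, not_or] at ha hb hc
  have hgen : closure ({a, b, c} : Set V) = ⊤ := by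
    set H := closure ({a, b, c} : Set V) with hH
    have hma : a ∈ H := subset_closure (by simp)
    have hmb : b ∈ H := subset_closure (by simp)
    have hmc : c ∈ H := subset_closure (by simp)
    have hab1 : a * b ≠ 1 := fun h => hb.2 (mul_left_cancel ((hsq a).trans h.symm)).symm
    have hT : ({1, a, b, a * b, c} : Finset V).card = 5 := by
      rw [Finset.card_insert_of_notMem, Finset.card_insert_of_notMem, Finset.card_insert_of_notMem,
        Finset.card_insert_of_notMem, Finset.card_singleton]
      · simp only [Finset.mem_singleton]; exact Ne.symm hc.2.2.2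
      · simp only [Finset.mem_insert, Finset.mem_singleton, not_or]
        exact ⟨fun h => ha (by simpa using (mul_right_cancel (h.symm.trans (one_mul b).symm))),
          Ne.symm hc.2.2.1⟩
      · simp only [Finset.mem_insert, Finset.mem_singleton, not_or]
        exact ⟨Ne.symm hb.2, fun h => hb.1 (mul_left_cancel (h.symm.trans (mul_one a).symm)),
          Ne.symm hc.2.1⟩
      · simp only [Finset.mem_insert, Finset.mem_singleton, not_or]
        exact ⟨Ne.symm ha, Ne.symm hb.1, Ne.symm hab1, Ne.symm hc.1⟩
    haveI := Fintype.ofFinite H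
    have h5 : 5 ≤ Nat.card H := by
      rw [← hT, Nat.card_eq_fintype_card, Fintype.card_subtype]
      refine Finset.card_le_card fun x hx => Finset.mem_filter.2 ⟨Finset.mem_univ _, ?_⟩
      simp only [Finset.mem_insert, Finset.mem_singleton] at hx
      rcases hx with rfl | rfl | rfl | rfl | rfl
      exacts [one_mem _, hma, hmb, mul_mem hma hmb, hmc]
    refine eq_top_of_card_eq H ?_
    obtain ⟨d, hd⟩ := card_subgroup_dvd_card H
    rw [hV] at hd ⊢
    have : d < 2 := by nlinarith
    interval_cases d <;> omega
  let T : Finset (Σ _ : V, Σ _ : V, V) :=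
    (Finset.univ.erase 1).sigma fun x =>
      ((Finset.univ.erase 1).erase x).sigma fun y =>
        (((Finset.univ.erase 1).erase x).erase y).erase (x * y)
  have hTc : T.card ≤ 168 := by
    rw [Finset.card_sigma]
    calc ∑ x ∈ Finset.univ.erase (1 : V), _ ≤ ∑ _x ∈ Finset.univ.erase (1 : V), 24 := by
          refine Finset.sum_le_sum fun x hx => ?_
          rw [Finset.card_sigma]
          calc ∑ y ∈ (Finset.univ.erase (1 : V)).erase x, _
                ≤ ∑ _y ∈ (Finset.univ.erase (1 : V)).erase x, 4 := by
                refine Finset.sum_le_sum fun y hy => ?_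
                simp only [Finset.mem_erase, Finset.mem_univ, and_true] at hx hy
                rw [Finset.card_erase_of_mem, Finset.card_erase_of_mem, Finset.card_erase_of_mem,
                  Finset.card_erase_of_mem (Finset.mem_univ _), Finset.card_univ, hV']
                · simp [hx]
                · simp [hy.1, hy.2]
                · simp only [Finset.mem_erase, Finset.mem_univ, and_true]
                  exact ⟨fun h => hx (mul_right_cancel (h.trans (one_mul y).symm)),
                    fun h => hy.2 (mul_left_cancel (h.trans (mul_one x).symm)),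
                    fun h => hy.1 (mul_left_cancel ((hsq x).trans h.symm)).symm⟩
            _ = 24 := by
              rw [Finset.sum_const, Finset.card_erase_of_mem hx,
                Finset.card_erase_of_mem (Finset.mem_univ _), Finset.card_univ, hV']
              rfl
      _ = 168 := by
        rw [Finset.sum_const, Finset.card_erase_of_mem (Finset.mem_univ _), Finset.card_univ, hV']
        rfl
  have hmemT : ∀ θ : MulAut V, (⟨θ a, θ b, θ c⟩ : Σ _ : V, Σ _ : V, V) ∈ T := by
    intro θ
    simp only [T, Finset.mem_sigma, Finset.mem_erase, Finset.mem_univ, and_true, ne_eq,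
      EmbeddingLike.map_eq_one_iff, EmbeddingLike.apply_eq_iff_eq, ← map_mul]
    exact ⟨ha, ⟨hb.2, hb.1⟩, hc.2.2.2, hc.2.2.1, hc.2.1, hc.1⟩
  calc Nat.card (MulAut V) ≤ Nat.card ↥T := by
        refine Nat.card_le_card_of_injective (fun θ => ⟨⟨θ a, θ b, θ c⟩, hmemT θ⟩) fun θ θ' h => ?_
        have h' := congrArg Subtype.val h
        simp only [Sigma.mk.injEq, heq_eq_eq] at h'
        refine MulEquiv.ext fun x => ?_
        have hx : x ∈ closure ({a, b, c} : Set V) := hgen ▸ mem_top x
        induction hx using Subgroup.closure_induction with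
        | mem y hy =>
          rcases hy with rfl | rfl | rfl
          exacts [h'.1, h'.2.1, h'.2.2]
        | one => rw [map_one, map_one]
        | mul y z _ _ hy hz => rw [map_mul, map_mul, hy, hz]
        | inv y _ hy => rw [map_inv, map_inv, hy]
    _ ≤ 168 := by rw [Nat.card_eq_finsetCard]; exact hTc

theorem out_of_three (hFT : OddSolvable.{u}) (S : Sylow 2 G) (hS : (S : Subgroup G) ≠ ⊥)
    (hc : Nat.card (↥(S : Subgroup G) ⧸ frattini ↥(S : Subgroup G)) ≤ 8)
    {g : G} (hg : g ∈ normalizer ((S : Subgroup G) : Set G)) (hodd : Odd (orderOf g))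
    (hnc : g ∉ centralizer ((S : Subgroup G) : Set G)) : Group.IsSolvable (Cfsg.Out G) := by
  haveI : Fact (Nat.Prime 2) := ⟨Nat.prime_two⟩
  haveI := finite_mulAut G
  by_cases h4 : Nat.card (↥(S : Subgroup G) ⧸ frattini ↥(S : Subgroup G)) ≤ 4
  · exact out_of_small hFT S hS h4
  have h8 : Nat.card (↥(S : Subgroup G) ⧸ frattini ↥(S : Subgroup G)) = 8 := by
    obtain ⟨k, hk⟩ := IsPGroup.iff_card.1 (S.2.to_quotient (frattini ↥(S : Subgroup G)))
    rcases k with - | - | - | - | k
    all_goals first
      | (rw [hk] at hc h4; omega)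
      | exact hk
      | (rw [hk] at hc
         have : 16 ≤ 2 ^ (k + 1 + 1 + 1 + 1) := by
           calc (16 : ℕ) = 2 ^ 4 := rfl
             _ ≤ _ := Nat.pow_le_pow_right two_pos (by omega)
         omega)
  refine isSolvable_out hFT S hS (isSolvable_of_modPhi S.2 _ ?_)
  set V := ↥(S : Subgroup G) ⧸ frattini ↥(S : Subgroup G)
  haveI := finite_mulAut V
  rw [MonoidHom.map_range]
  set ψ := (modPhi ↥(S : Subgroup G)).comp (restr S) with hψ
  set N := (normConj S).range.map ψ.rangeRestrict with hN
  haveI : N.Normal := (normConj_range_normal S).map _ ψ.rangeRestrict_surjective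
  set δ := ψ.rangeRestrict.comp (normConj S) with hδ
  have hNδ : N = δ.range := MonoidHom.map_range ψ.rangeRestrict (normConj S)
  have hker : (S : Subgroup G).subgroupOf (normalizer ((S : Subgroup G) : Set G)) ≤ δ.ker := by
    intro n hn
    refine MonoidHom.mem_ker.2 (Subtype.ext (MulEquiv.ext fun u => ?_))
    obtain ⟨x, rfl⟩ := QuotientGroup.mk_surjective u
    show ((restr S (normConj S n) x : ↥(S : Subgroup G)) : V) = (x : V)
    have hx : restr S (normConj S n) x = ⟨n, hn⟩ * x * ⟨n, hn⟩⁻¹ := Subtype.ext rfl
    rw [hx, QuotientGroup.mk_mul, QuotientGroup.mk_mul, QuotientGroup.mk_inv,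
      quotient_comm S.2, ← mul_assoc, inv_mul_cancel, one_mul]
  have hNodd : Odd (Nat.card N) := by
    rw [hNδ, ← Subgroup.index_ker]
    refine Nat.not_even_iff_odd.1 fun he => ?_
    have h2 : 2 ∣ ((S : Subgroup G).subgroupOf (normalizer ((S : Subgroup G) : Set G))).index :=
      (even_iff_two_dvd.1 he).trans (index_dvd_of_le hker)
    exact S.not_dvd_index (h2.trans (relIndex_dvd_index_of_le le_normalizer))
  have hN1 : N ≠ ⊥ := by
    intro hb
    apply hnc
    have h1 : δ ⟨g, hg⟩ = 1 := by
      rw [← mem_bot, ← hb, hNδ]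
      exact ⟨_, rfl⟩
    have h2 : restr S (normConj S ⟨g, hg⟩) ∈ (modPhi ↥(S : Subgroup G)).ker :=
      MonoidHom.mem_ker.2 (congrArg Subtype.val h1)
    obtain ⟨k, hk⟩ := isPGroup_modPhi_ker S.2 ⟨_, h2⟩
    have hd : orderOf (restr S (normConj S ⟨g, hg⟩)) ∣ orderOf g := by
      have := (orderOf_map_dvd ((restr S).comp (normConj S)) ⟨g, hg⟩)
      rwa [Subgroup.orderOf_mk] at this
    have h3 : restr S (normConj S ⟨g, hg⟩) = 1 := by
      rw [← orderOf_eq_one_iff]
      exact Nat.eq_one_of_dvd_coprimes (Nat.Coprime.pow_right k (Nat.coprime_two_right.2 hodd)) hd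
        (orderOf_dvd_of_pow_eq_one (congrArg Subtype.val hk))
    rw [mem_centralizer_iff]
    intro s hs
    have h4 := congrArg
      (fun e : MulAut ↥(S : Subgroup G) => ((e ⟨s, hs⟩ : ↥(S : Subgroup G)) : G)) h3
    exact (mul_inv_eq_iff_eq_mul.1 h4).symm
  haveI : Group.IsSolvable N := hFT N hNodd
  have hcard : Nat.card ψ.range ≤ 168 :=
    (card_le_card_group ψ.range).trans
      (card_mulAut_le h8 (quotient_sq S.2) (quotient_comm S.2))
  have hN3 : 3 ≤ Nat.card N := by
    have h1 := (one_lt_card_iff_ne_bot N).2 hN1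
    obtain ⟨k, hk⟩ := hNodd
    omega
  haveI : Group.IsSolvable (ψ.range ⧸ N) := S3378.isSolvable_of_card_lt _ _ rfl (by
    rw [← Subgroup.index_eq_card]
    have h1 := N.card_mul_index
    nlinarith)
  exact (Group.isSolvable_iff_subgroup_quotient N).2 ⟨inferInstance, inferInstance⟩

theorem card_quotient_frattini_le_of_triple {P : Type*} [Group P] [Finite P] (h2 : IsPGroup 2 P)
    {a b c : P} (habc : closure ({a, b, c} : Set P) = ⊤) : Nat.card (P ⧸ frattini P) ≤ 8 := by
  classical
  set H : Subgroup (P ⧸ frattini P) :=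
    (closure ({a, b} : Set P)).map (QuotientGroup.mk' (frattini P)) with hH
  haveI : IsMulCommutative (P ⧸ frattini P) := ⟨⟨quotient_comm h2⟩⟩
  haveI : H.Normal := ⟨fun x hx g => by
    rw [quotient_comm h2 g x, mul_inv_cancel_right]; exact hx⟩
  have hHc : Nat.card H ≤ 4 := by
    set C := closure ({a, b} : Set P)
    have hC : closure ({⟨a, subset_closure (by simp)⟩, ⟨b, subset_closure (by simp)⟩} : Set C) = ⊤ := by
      apply Subgroup.map_injective C.subtype_injective
      rw [MonoidHom.map_closure, ← MonoidHom.range_eq_map, range_subtype, Set.image_pair]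
      rfl
    refine le_trans ?_ (card_quotient_frattini_le_of_pair (h2.to_subgroup C) hC)
    have hle : frattini C ≤ ((QuotientGroup.mk' (frattini P)).comp C.subtype).ker := by
      haveI : Fact (Nat.Prime 2) := ⟨Nat.prime_two⟩
      refine PFrattini.frattini_le (p := 2) ?_ fun x => ?_
      · rw [commutator_def, Subgroup.commutator_le]
        intro x _ y _
        rw [MonoidHom.mem_ker, map_commutatorElement, commutatorElement_eq_one_iff_mul_comm]
        exact quotient_comm h2 _ _
      · rw [MonoidHom.mem_ker, map_pow, sq]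
        exact quotient_sq h2 _
    have hr : ((QuotientGroup.mk' (frattini P)).comp C.subtype).range = H := by
      rw [MonoidHom.range_comp, range_subtype]
    rw [← hr]
    refine Nat.card_le_card_of_surjective
      (QuotientGroup.lift (frattini C) ((QuotientGroup.mk' (frattini P)).comp C.subtype).rangeRestrict
        (by rwa [MonoidHom.ker_rangeRestrict])) ?_
    exact QuotientGroup.lift_surjective_of_surjective _ _
      (MonoidHom.rangeRestrict_surjective _) _
  have hidx : H.index ≤ 2 := by
    rw [Subgroup.index_eq_card]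
    set cc : (P ⧸ frattini P) ⧸ H := QuotientGroup.mk (c : P ⧸ frattini P)
    have hall : ∀ u : (P ⧸ frattini P) ⧸ H, u = 1 ∨ u = cc := by
      let f : P →* (P ⧸ frattini P) ⧸ H :=
        (QuotientGroup.mk' H).comp (QuotientGroup.mk' (frattini P))
      have hcc : cc * cc = 1 := by
        rw [← QuotientGroup.mk_mul, quotient_sq h2, QuotientGroup.mk_one]
      have hle : closure ({a, b, c} : Set P) ≤
          ({ carrier := {x | f x = 1 ∨ f x = cc}
             one_mem' := Or.inl (map_one f)
             mul_mem' := fun {x y} hx hy => by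
               rcases hx with hx | hx <;> rcases hy with hy | hy <;>
                 simp [Set.mem_setOf_eq, map_mul, hx, hy, hcc]
             inv_mem' := fun {x} hx => by
               rcases hx with hx | hx <;>
                 simp [Set.mem_setOf_eq, map_inv, hx, inv_eq_of_mul_eq_one_right hcc] } : Subgroup P) := by
        rw [Subgroup.closure_le]
        rintro x (rfl | rfl | rfl)
        · left
          exact (QuotientGroup.eq_one_iff _).2 (mem_map_of_mem _ (subset_closure (by simp)))
        · left
          exact (QuotientGroup.eq_one_iff _).2 (mem_map_of_mem _ (subset_closure (by simp)))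
        · right; rfl
      intro u
      obtain ⟨v, rfl⟩ := QuotientGroup.mk_surjective u
      obtain ⟨x, rfl⟩ := QuotientGroup.mk_surjective v
      exact hle (habc ▸ mem_top x)
    calc Nat.card ((P ⧸ frattini P) ⧸ H) ≤ ({1, cc} : Finset _).card := by
          haveI := Fintype.ofFinite ((P ⧸ frattini P) ⧸ H)
          rw [Nat.card_eq_fintype_card, ← Finset.card_univ]
          exact Finset.card_le_card fun u _ => by simpa using hall u
      _ ≤ 2 := Finset.card_le_two
  have := H.card_mul_index
  nlinarith

theorem out_of_three_generators (hFT : OddSolvable.{u}) (S : Sylow 2 G) (hS : (S : Subgroup G) ≠ ⊥)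
    {a b c : ↥(S : Subgroup G)} (habc : closure ({a, b, c} : Set ↥(S : Subgroup G)) = ⊤)
    {g : G} (hg : g ∈ normalizer ((S : Subgroup G) : Set G)) (hodd : Odd (orderOf g))
    (hnc : g ∉ centralizer ((S : Subgroup G) : Set G)) : Group.IsSolvable (Cfsg.Out G) :=
  out_of_three hFT S hS (card_quotient_frattini_le_of_triple S.2 habc) hg hodd hnc

end main

end Cfsg.Agent.Lib.OddCond.OutSolvable
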