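import Mathlib
import Cfsg.Agent.Lib.OddCond.Basic
import Cfsg.Agent.Lib.FixedAverage.PrimitiveDegree

/-!
Primitive characters of groups of odd order, given the odd order theorem.
-/

set_option autoImplicit false

universe u

namespace Cfsg.Agent.Lib.OddCond

theorem primitive_degree_class_size (hFT : OddSolvable.{u}) {G : Type u} [Group G] [Fintype G]
    (hodd : Odd (Nat.card G)) (χ : Cfsg.IrrCharacter G)
    (hprim : ¬ ∃ (H : Subgroup G), H ≠ ⊤ ∧ ∃ θ : ↥H → ℂ, Cfsg.IsCharacter ↥H θ ∧
      Cfsg.indFun H θ = (χ : G → ℂ)) (p : ℕ) [hp : Fact p.Prime] :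
    ∃ g : G, (Cfsg.charDegree (χ : G → ℂ)).factorization p ≤
      ((Subgroup.centralizer ({g} : Set G)).index).factorization p := by
  haveI := hFT G hodd
  exact FixedAverage.exists_class_size_factorization χ hprim hp.out

end Cfsg.Agent.Lib.OddCond
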