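import Mathlib
import Cfsg.Agent.Lib.OddCond.OddTransitive
import Cfsg.Agent.Lib.RankOne.Nilpotent

/-!
The split rank-one set-up, given the odd order theorem: the inverted elements of the two-point
stabiliser form a cyclic normal subgroup.
-/

set_option autoImplicit false
set_option linter.style.haveILetI false
set_option linter.unusedSectionVars false

universe u v

namespace Cfsg.Agent.Lib.OddCond

open Cfsg MulAction Cfsg.Agent.Lib.RankOne

variable {G : Type u} {Ω : Type v} [Group G] [MulAction G Ω] [Finite G] {a : Ω} {t : G}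
  {Q : Subgroup G}

variable (hS : IsRankOneSetup G Ω a t Q)
  (h2 : ∃ x y : G, x ≠ 1 ∧ y ≠ 1 ∧ x ≠ y ∧ x * x = 1 ∧ y * y = 1 ∧ x * y = y * x)

/-- The involutions of the point stabiliser together with the identity. -/
def invSub : Subgroup G where
  carrier := {z | z ∈ stabilizer G a ∧ z * z = 1}
  one_mem' := ⟨one_mem _, one_mul 1⟩
  mul_mem' := by
    rintro z w ⟨hz, hz2⟩ ⟨hw, hw2⟩
    refine ⟨mul_mem hz hw, ?_⟩
    rcases eq_or_ne z 1 with rfl | hz1
    · rwa [one_mul]
    have hc := involution_central hS h2 (s := z) ⟨hz, hz1, hz2⟩ (involution_mem_Q hS hw hw2)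
    calc z * w * (z * w) = z * (w * z) * w := by group
      _ = (z * z) * (w * w) := by rw [← hc]; group
      _ = 1 := by rw [hz2, hw2, one_mul]
  inv_mem' := by
    rintro z ⟨hz, hz2⟩
    exact ⟨inv_mem hz, by rw [← mul_inv_rev, hz2, inv_one]⟩

theorem mem_invSub {z : G} : z ∈ invSub hS h2 ↔ z ∈ stabilizer G a ∧ z * z = 1 := Iff.rfl

/-- The involutions of the point stabiliser commute. -/
abbrev invSubCommGroup : CommGroup (invSub hS h2) :=
  { (inferInstance : Group (invSub hS h2)) with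
    mul_comm := fun z w => Subtype.ext (by
      have h := (z * w).2.2
      rw [Subgroup.coe_mul] at h ⊢
      have hz : (z : G)⁻¹ = z := inv_eq_of_mul_eq_one_right z.2.2
      have hw : (w : G)⁻¹ = w := inv_eq_of_mul_eq_one_right w.2.2
      calc (z : G) * w = ((z : G) * w)⁻¹ := (inv_eq_of_mul_eq_one_right h).symm
        _ = (w : G) * z := by rw [mul_inv_rev, hz, hw]) }

theorem invSub_conj {d z : G} (hd : d ∈ stabilizer G a) (hz : z ∈ invSub hS h2) :
    d * z * d⁻¹ ∈ invSub hS h2 :=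
  ⟨mul_mem (mul_mem hd hz.1) (inv_mem hd), by
    calc d * z * d⁻¹ * (d * z * d⁻¹) = d * (z * z) * d⁻¹ := by group
      _ = 1 := by rw [hz.2]; group⟩

theorem twoStab_le_normalizer_invSub :
    twoStab a t ≤ Subgroup.normalizer (invSub hS h2 : Set G) := by
  intro d hd
  rw [Subgroup.mem_normalizer_iff]
  intro z
  refine ⟨fun hz => invSub_conj hS h2 (D_le hS hd) hz, fun hz => ?_⟩
  have := invSub_conj hS h2 (inv_mem (D_le hS hd)) hz
  simpa [mul_assoc] using this

/-- The action of the two-point stabiliser on `invSub`. -/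
def actHom : twoStab a t →* MulAut (invSub hS h2) :=
  (invSub hS h2).normalizerMonoidHom.comp
    (Subgroup.inclusion (twoStab_le_normalizer_invSub hS h2))

theorem actHom_apply (d : twoStab a t) (z : invSub hS h2) :
    (actHom hS h2 d z : G) = d * z * (d : G)⁻¹ := rfl

/-- Conjugation by `t` on the two-point stabiliser. -/
def swapAut : twoStab a t ≃* twoStab a t where
  toFun x := ⟨t * x * t, conj_t_mem_D hS x.2⟩
  invFun x := ⟨t * x * t, conj_t_mem_D hS x.2⟩
  left_inv x := Subtype.ext (t_conj_conj hS)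
  right_inv x := Subtype.ext (t_conj_conj hS)
  map_mul' x y := Subtype.ext (t_conj_mul hS)

theorem actHom_ker_fixed {s r : G} (hs : s ∈ involutionsIn (stabilizer G a : Set G)) (hr : r ∈ Q)
    (h : t * s * t = r⁻¹ * t * r) {d : twoStab a t} (hd : d ∈ (actHom hS h2).ker) :
    swapAut hS d = d := by
  have h1 : (d : G) * s * (d : G)⁻¹ = s :=
    congrArg Subtype.val (DFunLike.congr_fun (MonoidHom.mem_ker.1 hd)
      (⟨s, hs.1, hs.2.2⟩ : invSub hS h2))
  have h3 : (d : G) * s = s * d := mul_inv_eq_iff_eq_mul.1 h1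
  apply Subtype.ext
  show t * (d : G) * t = d
  rw [← (commute_t_iff hS hs hr h d.2).2 h3, mul_assoc, hS.mul_self, mul_one]

include hS h2

set_option maxHeartbeats 1000000 in
theorem structure_from_odd_order (hFT : OddSolvable.{u}) :
    (∃ C : Subgroup G, (C : Set G) = invertedBy (twoStab a t) t ∧ IsCyclic C ∧
      ∀ d ∈ twoStab a t, ∀ c ∈ C, d * c * d⁻¹ ∈ C) ∧
    ∃ v ∈ twoStab a t ⊓ Subgroup.centralizer {t},
      (twoStab a t ⊓ Subgroup.centralizer {t} ⊓
        Subgroup.centralizer (invertedBy (twoStab a t) t)) ⊔ Subgroup.closure {v} =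
      twoStab a t ⊓ Subgroup.centralizer {t} := by
  classical
  obtain ⟨s, r, hs, hr, hst⟩ := exists_structure hS
  set D := twoStab a t with hD
  set K := invertedBy D t with hK
  set Z := invSub hS h2 with hZ
  set φ := actHom hS h2 with hφ
  set W := φ.ker with hW
  haveI : Group.IsSolvable D := hFT D hS.odd_card
  set B := D ⧸ W
  let ψ : B →* MulAut Z := QuotientGroup.kerLift φ
  have hψ : Function.Injective ψ := QuotientGroup.kerLift_injective φ
  letI : CommGroup Z := invSubCommGroup hS h2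
  letI : DistribMulAction B (Additive Z) :=
    { smul := fun q z => Additive.ofMul (ψ q z.toMul)
      one_smul := fun z => by
        show Additive.ofMul (ψ 1 z.toMul) = z
        rw [map_one]; rfl
      mul_smul := fun q q' z => by
        show Additive.ofMul (ψ (q * q') z.toMul) = Additive.ofMul (ψ q (ψ q' z.toMul))
        rw [map_mul]; rfl
      smul_zero := fun q => congrArg Additive.ofMul (map_one (ψ q))
      smul_add := fun q x y => congrArg Additive.ofMul (map_mul (ψ q) x.toMul y.toMul) }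
  have hsmul : ∀ (d : D) (z : Additive Z),
      (((QuotientGroup.mk d : B) • z).toMul : G) = d * (z.toMul : Z) * (d : G)⁻¹ :=
    fun d z => rfl
  haveI : FaithfulSMul B (Additive Z) := ⟨fun {x y} h => hψ (MulEquiv.ext fun z =>
    congrArg Additive.toMul (h (Additive.ofMul z)))⟩
  have hsZ : s ∈ Z := ⟨hs.1, hs.2.2⟩
  set σ : Additive Z := Additive.ofMul ⟨s, hsZ⟩ with hσ
  have hσ0 : σ ≠ 0 := fun e => hs.2.1 (congrArg (fun z : Additive Z => (z.toMul : G)) e)
  haveI : Nontrivial (Additive Z) := ⟨⟨σ, 0, hσ0⟩⟩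
  have hinv : ∀ z : Additive Z, z ≠ 0 → (z.toMul : G) ∈ involutionsIn (stabilizer G a : Set G) :=
    fun z hz => ⟨z.toMul.2.1, fun e => hz (congrArg Additive.ofMul (Subtype.ext e)), z.toMul.2.2⟩
  have htrans : ∀ x y : Additive Z, x ≠ 0 → y ≠ 0 → ∃ b : B, b • x = y := by
    intro x y hx hy
    obtain ⟨k, hk, he⟩ := exists_conj_inverted hS (hinv x hx) (hinv y hy)
    refine ⟨QuotientGroup.mk (⟨k⁻¹, inv_mem hk.1⟩ : D), Additive.toMul.injective (Subtype.ext ?_)⟩
    rw [hsmul]
    simpa using he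
  have hE : ∀ e : Additive Z, (2 : ℕ) • e = 0 := fun e => by
    apply Additive.toMul.injective
    rw [toMul_nsmul, toMul_zero, pow_two]
    exact Subtype.ext e.toMul.2.2
  have hBodd : Odd (Nat.card B) := hS.odd_card.of_dvd_nat (Subgroup.card_quotient_dvd_card W)
  haveI : Group.IsSolvable B :=
    Group.isSolvable_of_surjective (f := QuotientGroup.mk' W) (QuotientGroup.mk'_surjective W)
  obtain ⟨hMcyc, hsemi⟩ := fittingSubgroup_cyclic_semiregular hBodd Nat.prime_two hE htrans
  obtain ⟨A, hAn, -, -, hAF, hBA⟩ := exists_cyclic_over_fitting hBodd Nat.prime_two hE htrans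
  set M := fittingSubgroup B with hM
  have hVfix : ∀ d : D, ((d : G) * t = t * d ↔ (QuotientGroup.mk d : B) • σ = σ) := by
    intro d
    rw [commute_t_iff hS hs hr hst d.2]
    constructor
    · intro h
      apply Additive.toMul.injective
      apply Subtype.ext
      rw [hsmul]
      show (d : G) * s * (d : G)⁻¹ = s
      rw [h, mul_assoc, mul_inv_cancel, mul_one]
    · intro h
      have h1 : (d : G) * s * (d : G)⁻¹ = s :=
        (hsmul d σ).symm.trans (congrArg (fun z : Additive Z => (z.toMul : G)) h)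
      exact mul_inv_eq_iff_eq_mul.1 h1
  let τ : B ≃* B := QuotientGroup.congr W W (swapAut hS) (by
    ext d
    constructor
    · rintro ⟨x, hx, rfl⟩
      show swapAut hS x ∈ W
      rwa [actHom_ker_fixed hS h2 hs hr hst hx]
    · intro hd
      exact ⟨d, hd, actHom_ker_fixed hS h2 hs hr hst hd⟩)
  have hτ : ∀ d : D, τ (QuotientGroup.mk d) = QuotientGroup.mk (swapAut hS d) := fun d => rfl
  have hτK : ∀ k : D, (k : G) ∈ K →
      τ (QuotientGroup.mk k) = (QuotientGroup.mk k : B)⁻¹ := by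
    intro k hk
    rw [hτ, ← QuotientGroup.mk_inv]
    exact congrArg _ (Subtype.ext ((inverted_iff hS).1 hk).2)
  have hτM : ∀ m ∈ M, τ m ∈ M := by
    intro m hm
    have := Fitting.map_fittingSubgroup_equiv (G := B) τ
    rw [hM, ← this]
    exact ⟨m, hm, rfl⟩
  have hfix1 : ∀ x ∈ M, τ x = x → x = 1 := by
    intro x hx hτx
    obtain ⟨d, rfl⟩ := QuotientGroup.mk_surjective x
    obtain ⟨y, k, hy, hyt, hk, hd⟩ := exists_fixed_mul_inverted hS.odd_card hS.mul_self
      (fun z hz => conj_t_mem_D hS hz) d.2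
    set y' : D := ⟨y, hy⟩
    set k' : D := ⟨k, hk.1⟩
    have hdd : d = y' * k' := Subtype.ext hd
    have hty : τ (QuotientGroup.mk y') = (QuotientGroup.mk y' : B) := by
      rw [hτ]
      refine congrArg _ (Subtype.ext ?_)
      show t * y * t = y
      rw [← hyt, mul_assoc, hS.mul_self, mul_one]
    rw [hdd, QuotientGroup.mk_mul, map_mul, hty, hτK k' hk, mul_left_cancel_iff] at hτx
    have hk1 : (QuotientGroup.mk k' : B) = 1 :=
      eq_one_of_mul_self_of_odd (X := (⊤ : Subgroup B)) (by rwa [Subgroup.card_top]) trivial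
        (by nth_rewrite 1 [← hτx]; exact inv_mul_cancel _)
    by_contra hne
    refine hσ0 (hsemi _ hx hne σ ?_)
    rw [hdd, QuotientGroup.mk_mul, hk1, mul_one]
    exact (hVfix y').1 hyt
  have hMcomm : ∀ x ∈ M, ∀ y ∈ M, x * y = y * x := by
    intro x hx y hy
    obtain ⟨g, hg⟩ := hMcyc.exists_generator
    obtain ⟨i, hi⟩ := Subgroup.mem_zpowers_iff.1 (hg ⟨x, hx⟩)
    obtain ⟨j, hj⟩ := Subgroup.mem_zpowers_iff.1 (hg ⟨y, hy⟩)
    have := ((Commute.refl g).zpow_zpow i j).eq
    rw [hi, hj] at this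
    exact congrArg Subtype.val this
  have hτinv : ∀ m ∈ M, τ m = m⁻¹ := by
    intro m hm
    have hττ : τ (τ m) = m := by
      obtain ⟨d, rfl⟩ := QuotientGroup.mk_surjective m
      rw [hτ, hτ]
      exact congrArg _ (Subtype.ext (t_conj_conj hS))
    have h1 := hfix1 (m * τ m) (mul_mem hm (hτM m hm))
      (by rw [map_mul, hττ]; exact hMcomm _ (hτM m hm) m hm)
    exact eq_inv_of_mul_eq_one_right h1
  have hKM : ∀ k : D, (k : G) ∈ K → (QuotientGroup.mk k : B) ∈ M := by
    intro k hk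
    refine Fitting.centralizer_fittingSubgroup_le (G := B) (Subgroup.mem_centralizer_iff.2 ?_)
    intro m hm
    set c : B := QuotientGroup.mk k with hc
    have hMn : M.Normal := Fitting.fittingSubgroup_normal (G := B)
    have h1 := hτinv (c * m * c⁻¹) (hMn.conj_mem m hm c)
    rw [map_mul, map_mul, map_inv, hτinv m hm, hc, hτK k hk, ← hc, inv_inv] at h1
    have h3 : m * (c * c) = (c * c) * m := by
      have h4 : c⁻¹ * m * c = c * m * c⁻¹ := by
        have e1 : (c⁻¹ * m⁻¹ * c)⁻¹ = (c * m * c⁻¹)⁻¹⁻¹ := congrArg (·⁻¹) h1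
        calc c⁻¹ * m * c = (c⁻¹ * m⁻¹ * c)⁻¹ := by group
          _ = c * m * c⁻¹ := by rw [e1, inv_inv]
      calc m * (c * c) = c * (c⁻¹ * m * c) * c := by group
        _ = (c * c) * m := by rw [h4]; group
    exact commute_of_commute_mul_self (X := (⊤ : Subgroup B)) (by rwa [Subgroup.card_top]) trivial h3
  let f : K → M := fun k => ⟨QuotientGroup.mk (⟨(k : G), k.2.1⟩ : D), hKM _ k.2⟩
  have hf : Function.Injective f := by
    intro k₁ k₂ e
    have e1 : (QuotientGroup.mk (⟨(k₁ : G), k₁.2.1⟩ : D) : B)⁻¹ =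
        (QuotientGroup.mk (⟨(k₂ : G), k₂.2.1⟩ : D) : B)⁻¹ :=
      congrArg (·⁻¹) (congrArg Subtype.val e)
    have e2 := congrArg (fun b : B => ((b • σ).toMul : G)) e1
    simp only [← QuotientGroup.mk_inv, hsmul, Subgroup.coe_inv, inv_inv] at e2
    exact Subtype.ext (inj_conj hS hs k₁.2 k₂.2 e2)
  let g : M → involutionsIn (stabilizer G a : Set G) := fun m =>
    ⟨(((m : B) • σ).toMul : G), hinv _ (fun e => hσ0 ((smul_eq_zero_iff_eq (m : B)).1 e))⟩
  have hg : Function.Injective g := by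
    intro m₁ m₂ e
    have e1 : (m₁ : B) • σ = (m₂ : B) • σ :=
      Additive.toMul.injective (Subtype.ext (congrArg Subtype.val e :))
    by_contra hne
    refine hσ0 (hsemi ((m₂ : B)⁻¹ * m₁) (mul_mem (inv_mem m₂.2) m₁.2) ?_ σ ?_)
    · exact fun h => hne (Subtype.ext (inv_mul_eq_one.1 h).symm)
    · rw [mul_smul, e1, inv_smul_smul]
  haveI : Finite K := (Set.toFinite K).to_subtype
  haveI := finite_involutions hS
  have hfbij : Function.Bijective f := hf.bijective_of_nat_card_le
    ((Nat.card_le_card_of_injective g hg).trans (card_inverted hS).symm.le)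
  obtain ⟨m₀, hm₀⟩ := hMcyc.exists_generator
  obtain ⟨k₀, hk₀⟩ := hfbij.2 m₀
  have hpowK : ∀ n : ℕ, (k₀ : G) ^ n ∈ K := fun n => inverted_pow hS k₀.2 n
  have hKeq : (Subgroup.zpowers (k₀ : G) : Set G) = K := by
    ext x
    constructor
    · intro hx
      obtain ⟨n, rfl⟩ := (isOfFinOrder_of_finite (k₀ : G)).mem_zpowers_iff_mem_range_orderOf.1 hx
        |> Finset.mem_image.1 |> fun ⟨n, _, hn⟩ => (⟨n, hn⟩ : ∃ n : ℕ, (k₀ : G) ^ n = x)
      exact hpowK n
    · intro hx
      obtain ⟨n, hn⟩ : ∃ n : ℕ, m₀ ^ n = f ⟨x, hx⟩ := by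
        obtain ⟨n, -, hn⟩ := Finset.mem_image.1
          ((isOfFinOrder_of_finite m₀).mem_zpowers_iff_mem_range_orderOf.1 (hm₀ (f ⟨x, hx⟩)))
        exact ⟨n, hn⟩
      have : f ⟨(k₀ : G) ^ n, hpowK n⟩ = f ⟨x, hx⟩ := by
        rw [← hn, ← hk₀]
        exact Subtype.ext (QuotientGroup.mk_pow W (⟨(k₀ : G), k₀.2.1⟩ : D) n).symm.symm
      have h5 : (k₀ : G) ^ n = x := congrArg Subtype.val (hf this)
      exact h5 ▸ Subgroup.pow_mem _ (Subgroup.mem_zpowers (k₀ : G)) n
  refine ⟨⟨Subgroup.zpowers (k₀ : G), hKeq, inferInstance, ?_⟩, ?_⟩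
  · intro d hd c hc
    obtain ⟨y, k, hy, hyt, hk, rfl⟩ := exists_fixed_mul_inverted hS.odd_card hS.mul_self
      (fun z hz => conj_t_mem_D hS hz) hd
    have hk' : k ∈ Subgroup.zpowers (k₀ : G) := hKeq.ge hk
    have hcomm : k * c = c * k := by
      obtain ⟨i, rfl⟩ := hk'
      obtain ⟨j, rfl⟩ := hc
      exact ((Commute.refl _).zpow_zpow i j).eq
    have hcK : c ∈ K := hKeq.le hc
    have e : y * k * c * (y * k)⁻¹ = y * c * y⁻¹ := by
      rw [mul_assoc y k c, hcomm]; group
    rw [e]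
    refine hKeq.ge ((inverted_iff hS).2 ⟨mul_mem (mul_mem hy hcK.1) (inv_mem hy), ?_⟩)
    have hy' : t * y * t = y := by rw [← hyt, mul_assoc, hS.mul_self, mul_one]
    rw [t_conj_mul hS, t_conj_mul hS, t_conj_inv hS, hy', ((inverted_iff hS).1 hcK).2]
    group
  · set V := D ⊓ Subgroup.centralizer {t} with hV
    let θ : V →* B ⧸ A := (QuotientGroup.mk' A).comp
      ((QuotientGroup.mk' W).comp (Subgroup.inclusion (inf_le_left : V ≤ D)))
    haveI := hBA
    haveI : IsCyclic θ.range := inferInstance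
    obtain ⟨⟨_, v, rfl⟩, hvgen⟩ := IsCyclic.exists_generator (α := θ.range)
    refine ⟨v, v.2, le_antisymm (sup_le inf_le_left ?_) ?_⟩
    · rw [Subgroup.closure_le, Set.singleton_subset_iff]
      exact v.2
    intro x hx
    obtain ⟨i, hi⟩ := Subgroup.mem_zpowers_iff.1 (hvgen ⟨θ ⟨x, hx⟩, _, rfl⟩)
    set y : V := (⟨x, hx⟩ : V) * (v ^ i)⁻¹ with hy
    have hθ : θ y = 1 := by
      have hi' : θ v ^ i = θ ⟨x, hx⟩ := congrArg Subtype.val hi
      rw [hy, map_mul, map_inv, map_zpow, hi', mul_inv_cancel]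
    set yD : D := Subgroup.inclusion (inf_le_left : V ≤ D) y
    have hyA : (QuotientGroup.mk yD : B) ∈ A := (QuotientGroup.eq_one_iff _).1 hθ
    have hy1 : (QuotientGroup.mk yD : B) = 1 := by
      by_contra hne
      refine hσ0 (hsemi _ (hAF hyA) hne σ ((hVfix yD).1 ?_))
      exact (Subgroup.mem_centralizer_iff.1 y.2.2 t rfl).symm
    have hyW : (y : G) ∈ V ⊓ Subgroup.centralizer K := by
      refine ⟨y.2, Subgroup.mem_centralizer_iff.2 fun k hk => ?_⟩
      have hyφ : φ yD = 1 := MonoidHom.mem_ker.1 ((QuotientGroup.eq_one_iff _).1 hy1)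
      have hcI : ∀ u ∈ involutionsIn (stabilizer G a : Set G), (y : G) * u * (y : G)⁻¹ = u :=
        fun u hu => congrArg Subtype.val (DFunLike.congr_fun hyφ (⟨u, hu.1, hu.2.2⟩ : invSub hS h2))
      have hyt : (y : G) * t = t * y := (Subgroup.mem_centralizer_iff.1 y.2.2 t rfl).symm
      have hyy : t * (y : G) * t = y := by rw [← hyt, mul_assoc, hS.mul_self, mul_one]
      have hk' : (y : G) * k * (y : G)⁻¹ ∈ K := by
        refine (inverted_iff hS).2 ⟨mul_mem (mul_mem y.2.1 hk.1) (inv_mem y.2.1), ?_⟩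
        rw [t_conj_mul hS, t_conj_mul hS, t_conj_inv hS, hyy, ((inverted_iff hS).1 hk).2]
        group
      have e : (y : G) * k * (y : G)⁻¹ = k := by
        refine inj_conj hS hs hk' hk ?_
        have h1 : (y : G)⁻¹ * s * y = s := by
          have := hcI s hs
          calc (y : G)⁻¹ * s * y = (y : G)⁻¹ * ((y : G) * s * (y : G)⁻¹) * y := by rw [this]
            _ = s := by group
        calc ((y : G) * k * (y : G)⁻¹)⁻¹ * s * ((y : G) * k * (y : G)⁻¹)
            = (y : G) * (k⁻¹ * ((y : G)⁻¹ * s * y) * k) * (y : G)⁻¹ := by group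
          _ = k⁻¹ * s * k := by
              rw [h1]
              exact hcI _ (by simpa using conj_involutionsIn hS (inv_mem (D_le hS hk.1)) hs)
      exact (mul_inv_eq_iff_eq_mul.1 e).symm
    have hxy : x = (y : G) * ((v : G) ^ i) := by
      rw [hy, Subgroup.coe_mul, Subgroup.coe_inv, Subgroup.coe_zpow]
      group
    have hA1 : (y : G) ∈ (V ⊓ Subgroup.centralizer K) ⊔ Subgroup.closure {(v : G)} :=
      Subgroup.mem_sup_left hyW
    have hA2 : (v : G) ∈ (V ⊓ Subgroup.centralizer K) ⊔ Subgroup.closure {(v : G)} :=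
      Subgroup.mem_sup_right (Subgroup.subset_closure (Set.mem_singleton (v : G)))
    have hA3 := Subgroup.mul_mem _ hA1 (Subgroup.zpow_mem _ hA2 i)
    rw [← hxy] at hA3
    exact hA3

theorem sylowTwo_suzuki_or_abelian (hFT : OddSolvable.{u}) (S : Sylow 2 Q) :
    IsMulCommutative (S : Subgroup Q) ∨ IsSuzukiTwoGroup (S : Subgroup Q) := by
  classical
  by_cases hab : IsMulCommutative (S : Subgroup Q)
  · exact Or.inl hab
  right
  haveI : Fact (Nat.Prime 2) := ⟨Nat.prime_two⟩
  haveI hSn : (S : Subgroup Q).Normal := Coprime.normal_of_isNilpotent (nilpotent_Q hS h2) S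
  haveI : (S : Subgroup Q).Characteristic := S.characteristic_of_normal hSn
  have hmemS : ∀ u ∈ involutionsIn (stabilizer G a : Set G),
      ∃ hu : u ∈ Q, (⟨u, hu⟩ : Q) ∈ (S : Subgroup Q) := by
    intro u hu
    refine ⟨involution_mem_Q hS hu.1 hu.2.2, ?_⟩
    set w : Q := ⟨u, involution_mem_Q hS hu.1 hu.2.2⟩
    have hp : IsPGroup 2 (Subgroup.zpowers w) := by
      refine IsPGroup.of_card (n := 1) ?_
      rw [Nat.card_zpowers, pow_one]
      exact orderOf_eq_prime (Subtype.ext (by show u ^ 2 = 1; rw [pow_two]; exact hu.2.2))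
        (fun h => hu.2.1 (congrArg Subtype.val h))
    obtain ⟨P, hP⟩ := hp.exists_le_sylow
    haveI := S.unique_of_normal hSn
    rw [Subsingleton.elim S P]
    exact hP (Subgroup.mem_zpowers w)
  obtain ⟨⟨C, hC, hCc, -⟩, -⟩ := structure_from_odd_order hS h2 hFT
  have hCN : C ≤ Subgroup.normalizer (Q : Set G) := by
    intro c hc
    have hca : c ∈ stabilizer G a := D_le hS (hC.le hc).1
    rw [Subgroup.mem_normalizer_iff]
    intro q
    refine ⟨fun hq => conj_Q hS hca hq, fun hq => ?_⟩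
    have := conj_Q hS (inv_mem hca) hq
    simpa [mul_assoc] using this
  let αQ : C →* MulAut Q := Q.normalizerMonoidHom.comp (Subgroup.inclusion hCN)
  have hαS : ∀ (c : C) (x : Q), x ∈ (S : Subgroup Q) → αQ c x ∈ (S : Subgroup Q) := by
    intro c x hx
    have := Subgroup.characteristic_iff_map_eq.1
      (inferInstance : (S : Subgroup Q).Characteristic) (αQ c)
    rw [← this]
    exact ⟨x, hx, rfl⟩
  let ρ : C →* MulAut (S : Subgroup Q) := MonoidHom.mk'
    (fun c =>
      { toFun := fun x => ⟨αQ c x, hαS c x x.2⟩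
        invFun := fun x => ⟨αQ c⁻¹ x, hαS c⁻¹ x x.2⟩
        left_inv := fun x => Subtype.ext (by
          show αQ c⁻¹ (αQ c x) = x
          rw [← MulAut.mul_apply, ← map_mul, inv_mul_cancel, map_one]; rfl)
        right_inv := fun x => Subtype.ext (by
          show αQ c (αQ c⁻¹ x) = x
          rw [← MulAut.mul_apply, ← map_mul, mul_inv_cancel, map_one]; rfl)
        map_mul' := fun x y => Subtype.ext (map_mul (αQ c) (x : Q) y) })
    (fun c c' => MulEquiv.ext fun x => Subtype.ext (by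
      show αQ (c * c') x = αQ c (αQ c' x)
      rw [map_mul]; rfl))
  have hρ : ∀ (c : C) (x : (S : Subgroup Q)), (((ρ c x : (S : Subgroup Q)) : Q) : G) =
      (c : G) * ((x : Q) : G) * (c : G)⁻¹ := fun c x => rfl
  have hto : ∀ x : (S : Subgroup Q), x ≠ 1 → x * x = 1 →
      ((x : Q) : G) ∈ involutionsIn (stabilizer G a : Set G) := fun x hx1 hx =>
    ⟨hS.le (x : Q).2, fun e => hx1 (Subtype.ext (Subtype.ext e)),
      congrArg (fun z : (S : Subgroup Q) => ((z : Q) : G)) hx⟩
  refine ⟨inferInstance, S.2, ?_, ?_, ρ.range, ?_, ?_⟩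
  · by_contra hh
    push Not at hh
    exact hab ⟨⟨hh⟩⟩
  · obtain ⟨u, u', hu, hu', hne⟩ := exists_two_involutions hS h2
    obtain ⟨huQ, huS⟩ := hmemS u hu
    obtain ⟨huQ', huS'⟩ := hmemS u' hu'
    refine ⟨⟨_, huS⟩, ⟨_, huS'⟩, fun e => hne (congrArg (fun z : (S : Subgroup Q) => ((z : Q) : G)) e),
      fun e => hu.2.1 (congrArg (fun z : (S : Subgroup Q) => ((z : Q) : G)) e),
      Subtype.ext (Subtype.ext hu.2.2),
      fun e => hu'.2.1 (congrArg (fun z : (S : Subgroup Q) => ((z : Q) : G)) e),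
      Subtype.ext (Subtype.ext hu'.2.2)⟩
  · haveI := hCc
    exact isCyclic_of_surjective ρ.rangeRestrict ρ.rangeRestrict_surjective
  · intro x y hx1 hx hy1 hy
    obtain ⟨k, hk, hke⟩ := exists_conj_inverted hS (hto x hx1 hx) (hto y hy1 hy)
    have hkC : k ∈ C := hC.ge hk
    refine ⟨⟨ρ (⟨k, hkC⟩ : C)⁻¹, _, rfl⟩, Subtype.ext (Subtype.ext ?_), ?_⟩
    · rw [hρ]
      simpa using hke
    · rintro ⟨_, c, rfl⟩ hcx
      have h1 : (c : G) * ((x : Q) : G) * (c : G)⁻¹ = ((y : Q) : G) :=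
        (hρ c x).symm.trans (congrArg (fun z : (S : Subgroup Q) => ((z : Q) : G)) hcx)
      have hck : (c⁻¹ : C) = ⟨k, hkC⟩ := by
        refine Subtype.ext (inj_conj hS (hto x hx1 hx) (hC.le (c⁻¹).2) hk ?_)
        rw [hke, ← h1]
        simp
      exact Subtype.ext (congrArg ρ (by rw [← hck, inv_inv]))

end Cfsg.Agent.Lib.OddCond
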