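import Cfsg.Agent.S3862
import Cfsg.Agent.S3863
import Cfsg.Agent.Lib.OddCond.Basic
import Cfsg.Agent.Lib.Elem69.RealOdd
import Cfsg.Agent.Lib.Transfer.Criteria

/-!
Solvability when the non-central real classes have equal `2`-parts and the real elements of a Sylow
`2`-subgroup are central in it, given the odd order theorem.
-/

set_option autoImplicit false

universe u

namespace Cfsg.Agent.Lib.OddCond

variable {G : Type u} [Group G] [Finite G]

theorem solvable_of_real_two_part (hFT : OddSolvable.{u}) (a : ℕ)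
    (h : ∀ x : G, IsConj x x⁻¹ → x ∉ Subgroup.center G →
      ((Subgroup.centralizer ({x} : Set G)).index).factorization 2 = a)
    (S : Sylow 2 G)
    (hS : ∀ s : ↥(S : Subgroup G), IsConj s s⁻¹ → s ∈ Subgroup.center ↥(S : Subgroup G)) :
    Group.IsSolvable G ∧
      Cfsg.HasNormalPComplement 2 ↥(Subgroup.closure {g : G | ∃ k : ℕ, orderOf g = 2 ^ k}) := by
  haveI : Fact (Nat.Prime 2) := ⟨Nat.prime_two⟩
  by_cases hc : ∀ x : G, (∃ j : ℕ, orderOf x = 2 ^ j) → IsConj x x⁻¹ → x ∈ Subgroup.center G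
  · refine ⟨isSolvable_of_hasNormalPComplement_two hFT (S3862.result hc), S3862.result ?_⟩
    rintro x ⟨j, hj⟩ hx
    have hxG : IsConj (x : G) (x : G)⁻¹ := (Subgroup.subtype _).map_isConj hx
    have := hc x ⟨j, by rw [Subgroup.orderOf_coe, hj]⟩ hxG
    rw [Subgroup.mem_center_iff] at this ⊢
    exact fun y => Subtype.ext (this y)
  push Not at hc
  obtain ⟨w, ⟨j, hj⟩, hw, hwc⟩ := hc
  obtain ⟨t, ⟨i, hi⟩, ht⟩ := (S3863.result w hw).1
  have hnorm : Subgroup.zpowers t ≤ Subgroup.normalizer (Subgroup.zpowers w : Set G) := by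
    rw [Subgroup.zpowers_le, Subgroup.mem_normalizer_iff]
    intro y
    simp only [SetLike.mem_coe, Subgroup.mem_zpowers_iff]
    constructor
    · rintro ⟨k, rfl⟩
      exact ⟨-k, by rw [← conj_zpow, ht, inv_zpow']⟩
    · rintro ⟨k, hk⟩
      refine ⟨-k, ?_⟩
      have h1 : t * w ^ (-k) * t⁻¹ = w ^ k := by rw [← conj_zpow, ht, inv_zpow', neg_neg]
      rw [hk] at h1
      simpa using h1
  have hp : IsPGroup 2 (Subgroup.zpowers w ⊔ Subgroup.zpowers t : Subgroup G) :=
    IsPGroup.to_sup_of_normal_left' (IsPGroup.of_card (n := j) (by rw [Nat.card_zpowers, hj]))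
      (IsPGroup.of_card (n := i) (by rw [Nat.card_zpowers, hi])) hnorm
  obtain ⟨Q, hQ⟩ := hp.exists_le_sylow
  obtain ⟨c, rfl⟩ := MulAction.exists_smul_eq G S Q
  have hmem : ∀ y ∈ Subgroup.zpowers w ⊔ Subgroup.zpowers t, c⁻¹ * y * c ∈ (S : Subgroup G) := by
    intro y hy
    have h1 := hQ hy
    rw [Sylow.coe_subgroup_smul, Subgroup.mem_pointwise_smul_iff_inv_smul_mem] at h1
    simpa [MulAut.smul_def, mul_assoc] using h1
  have hwS := hmem w (Subgroup.mem_sup_left (Subgroup.mem_zpowers w))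
  have htS := hmem t (Subgroup.mem_sup_right (Subgroup.mem_zpowers t))
  have hsc : (⟨c⁻¹ * w * c, hwS⟩ : ↥(S : Subgroup G)) ∈ Subgroup.center ↥(S : Subgroup G) := by
    apply hS
    rw [isConj_iff]
    refine ⟨⟨c⁻¹ * t * c, htS⟩, Subtype.ext ?_⟩
    simp only [Subgroup.coe_mul, Subgroup.coe_inv]
    calc c⁻¹ * t * c * (c⁻¹ * w * c) * (c⁻¹ * t * c)⁻¹ = c⁻¹ * (t * w * t⁻¹) * c := by group
      _ = (c⁻¹ * w * c)⁻¹ := by rw [ht]; group
  have hle : (S : Subgroup G) ≤ Subgroup.centralizer ({c⁻¹ * w * c} : Set G) := by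
    intro y hy
    rw [Subgroup.mem_centralizer_singleton_iff]
    exact congrArg Subtype.val (Subgroup.mem_center_iff.1 hsc ⟨y, hy⟩)
  have hsG : IsConj (c⁻¹ * w * c) (c⁻¹ * w * c)⁻¹ := by
    rw [isConj_iff]
    exact ⟨c⁻¹ * t * c, by
      calc c⁻¹ * t * c * (c⁻¹ * w * c) * (c⁻¹ * t * c)⁻¹ = c⁻¹ * (t * w * t⁻¹) * c := by group
        _ = (c⁻¹ * w * c)⁻¹ := by rw [ht]; group⟩
  have hsnc : c⁻¹ * w * c ∉ Subgroup.center G := by
    intro hmem'
    apply hwc
    have := Subgroup.Normal.conj_mem (inferInstance : (Subgroup.center G).Normal) _ hmem' c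
    simpa [mul_assoc] using this
  have hodd : ¬ 2 ∣ (Subgroup.centralizer ({c⁻¹ * w * c} : Set G)).index :=
    fun h2 => S.not_dvd_index (h2.trans (Subgroup.index_dvd_of_le hle))
  have ha : a = 0 := by
    rw [← h _ hsG hsnc, Nat.factorization_eq_zero_of_not_dvd hodd]
  have hreal : ∀ x g : G, Odd (orderOf x) → g * x * g⁻¹ = x⁻¹ → x = 1 := by
    intro x g hx hg
    have hxr : IsConj x x⁻¹ := isConj_iff.2 ⟨g, hg⟩
    have hsq : x ^ 2 = 1 := by
      by_cases hxc : x ∈ Subgroup.center G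
      · have e : g * x * g⁻¹ = x := by
          rw [Subgroup.mem_center_iff.1 hxc g, mul_inv_cancel_right]
        rw [e] at hg
        rw [pow_two]
        nth_rewrite 2 [hg]
        exact mul_inv_cancel x
      · refine (S3863.result x hxr).2.1 ?_
        rw [← Nat.not_even_iff_odd, even_iff_two_dvd]
        intro h2
        have := h x hxr hxc
        rw [ha] at this
        have hne : (Subgroup.centralizer ({x} : Set G)).index ≠ 0 := Subgroup.index_ne_zero_of_finite
        exact (Nat.Prime.factorization_pos_of_dvd Nat.prime_two hne h2).ne' this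
    have h1 := orderOf_dvd_of_pow_eq_one hsq
    exact orderOf_eq_one_iff.1
      (Nat.eq_one_of_dvd_coprimes (Nat.coprime_two_right.2 hx) dvd_rfl h1)
  have hP := Elem69.sylow_two_normal_of_no_real_odd hreal S
  haveI := hP
  refine ⟨?_, ?_⟩
  · haveI : Group.IsSolvable (S : Subgroup G) := isPGroup_isSolvable S.2
    haveI : Group.IsSolvable (G ⧸ (S : Subgroup G)) := by
      refine hFT _ ?_
      rw [← Subgroup.index_eq_card, ← Nat.not_even_iff_odd, even_iff_two_dvd]
      exact S.not_dvd_index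
    exact (Group.isSolvable_iff_subgroup_quotient (S : Subgroup G)).2 ⟨inferInstance, inferInstance⟩
  · have hK : Subgroup.closure {g : G | ∃ k : ℕ, orderOf g = 2 ^ k} ≤ (S : Subgroup G) := by
      rw [Subgroup.closure_le]
      rintro g ⟨k, hk⟩
      have hgp : IsPGroup 2 (Subgroup.zpowers g) := IsPGroup.of_card (n := k) (by rw [Nat.card_zpowers, hk])
      obtain ⟨Q, hQ⟩ := hgp.exists_le_sylow
      obtain ⟨d, rfl⟩ := MulAction.exists_smul_eq G S Q
      rw [Sylow.smul_eq_of_normal] at hQ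
      exact hQ (Subgroup.mem_zpowers g)
    rw [Transfer.hasNormalPComplement_iff_locallyPTrivial]
    intro Q _ g _ hgo
    obtain ⟨k, hk⟩ := IsPGroup.iff_orderOf.1 (S.2.to_le hK) g
    rw [hk] at hgo
    have : g = 1 := by
      rw [← orderOf_eq_one_iff, hk]
      rcases Nat.eq_zero_or_pos k with rfl | hk0
      · rfl
      · exact absurd hgo (fun hco => by
          have := Nat.dvd_gcd (dvd_pow_self 2 hk0.ne') (dvd_refl 2)
          rw [hco] at this; omega)
    rw [this]; exact one_mem _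

end Cfsg.Agent.Lib.OddCond
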