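import Cfsg.Agent.Lib.SylowAutAbelian.Main
import Cfsg.Agent.Lib.OddCond.Basic

/-!
# S0227 modulo the odd order theorem
-/

set_option autoImplicit false

universe u

namespace Cfsg.Agent.Lib.OddCond

open Cfsg Subgroup

variable {G : Type u} [Group G] [Finite G]

/-- Automorphisms fixing a Sylow 2-subgroup pointwise, when `O(G) = 1`. -/
theorem sylowAut (hFT : OddSolvable.{u})
    (hO : ∀ N : Subgroup G, N.Normal → Odd (Nat.card N) → N = ⊥) (S : Sylow 2 G)
    (C : Subgroup (MulAut G)) (hC : ∀ φ : MulAut G, φ ∈ C ↔ ∀ s : G, s ∈ S → φ s = s) :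
    (∀ T : Sylow 2 ↥C, (∀ a b : ↥T, a * b = b * a) ∧
      ∃ N : Subgroup ↥C, N.Normal ∧ Subgroup.IsComplement' N (T : Subgroup ↥C)) ∧
      Group.IsSolvable ↥C := by
  haveI : Fact (Nat.Prime 2) := ⟨Nat.prime_two⟩
  haveI : Finite (MulAut G) := Finite.of_injective (fun f => (f : G → G)) DFunLike.coe_injective
  have hcore : oddCore G = ⊥ :=
    hO _ (@normal_of_characteristic _ _ _ PSolvable.pPrimeCore_characteristic)
      (Nat.coprime_two_right.1 PSolvable.pPrimeCore_coprime)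
  have hmem : ∀ a ∈ C, ∀ s ∈ (S : Subgroup G), a s = s := fun a ha s hs => (hC a).1 ha s hs
  have hnc := ZStar.SylowCentralizer.hasNormalPComplement hcore S C hmem
  refine ⟨fun T => ⟨SylowAutAbelian.sylow_comm hcore S C hmem T, ?_⟩,
    isSolvable_of_hasNormalPComplement_two hFT hnc⟩
  obtain ⟨P, N, hN, hc⟩ := hnc
  refine ⟨N, hN, isComplement'_of_coprime ?_ ?_⟩
  · rw [T.card_eq_multiplicity, ← P.card_eq_multiplicity]
    exact hc.card_mul
  · rw [T.card_eq_multiplicity]
    refine Nat.Coprime.pow_right _ (Nat.coprime_comm.1 (Nat.prime_two.coprime_iff_not_dvd.2 ?_))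
    rw [← hc.index_eq_card]
    exact P.not_dvd_index

end Cfsg.Agent.Lib.OddCond
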